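import Groth.Agent.GrpSchLib.Neutral
import Groth.Agent.GrpSchLib.MonoSubgroup
import Groth.Agent.SrcDescent.LocalAtSource
import Groth.Agent.S15351
import Groth.Agent.S5322

/-!
# Openness of the neutral components of a group smooth along the unit section
-/

set_option autoImplicit false

universe u

open CategoryTheory CategoryTheory.Limits MonoidalCategory CartesianMonoidalCategory MonObj GrpObj AlgebraicGeometry

attribute [local instance] CategoryTheory.Hom.monoid CategoryTheory.Hom.group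
set_option linter.style.haveILetI false
set_option linter.unusedSectionVars false

namespace Groth.Agent.Deform.Neutral

noncomputable section

open GrpSchLib

theorem neutralSet_field {K : Type u} [Field K] (H : Over (Spec (CommRingCat.of K))) [GrpObj H] :
    SGA3x.neutralSet H = connectedComponent (η[H].left (IsLocalRing.closedPoint K)) := by
  ext z
  rw [GrpSchLib.Neutral.mem_neutralSet_iff,
    show H.hom ⁻¹' {H.hom z} = Set.univ from Set.eq_univ_of_forall fun w => Subsingleton.elim _ _,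
    connectedComponentIn_univ, show GrpSchLib.Neutral.unit H (H.hom z) = η[H].left (IsLocalRing.closedPoint K) from
      congrArg _ (Subsingleton.elim _ _)]

theorem div_mem_field {K : Type u} [Field K] {H A : Over (Spec (CommRingCat.of K))} [GrpObj H] (a b : A ⟶ H)
    (t : A.left) (ha : a.left t ∈ SGA3x.neutralSet H) (hb : b.left t ∈ SGA3x.neutralSet H) :
    (a * b⁻¹).left t ∈ SGA3x.neutralSet H := by
  obtain ⟨c, hc, hce⟩ := exists_isMaxPt (η[H].left (IsLocalRing.closedPoint K))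
  rw [neutralSet_field, connectedComponent_one hc hce] at ha hb ⊢
  rw [show a * b⁻¹ = lift a (b ≫ GrpObj.inv) ≫ μ[H] by rw [Hom.mul_def, Hom.inv_def], left_comp_apply]
  refine mul_mem_closure hc hce ⟨?_, ?_⟩
  · rw [Set.mem_preimage, ← left_comp_apply, lift_fst]
    exact ha
  · rw [Set.mem_preimage, ← left_comp_apply, lift_snd, left_comp_apply]
    exact inv_mem_closure hc hce hb

variable {S : Scheme.{u}} {G : Over S} [GrpObj G]

theorem one_mem {T : Over S} (t : T.left) : (1 : T ⟶ G).left t ∈ SGA3x.neutralSet G := by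
  have h : (1 : T ⟶ G).left t = GrpSchLib.Neutral.unit G (T.hom t) := by
    rw [show (1 : T ⟶ G) = toUnit T ≫ η[G] from (MonObj.one_eq_one (M := G)) ▸ (MonObj.comp_one _).symm]
    rfl
  rw [h]
  exact GrpSchLib.Neutral.unit_mem_neutralSet G _

theorem div_mem {T : Over S} (g h : T ⟶ G) (t : T.left) (hg : g.left t ∈ SGA3x.neutralSet G)
    (hh : h.left t ∈ SGA3x.neutralSet G) : (g * h⁻¹).left t ∈ SGA3x.neutralSet G := by
  let σ : Spec (CommRingCat.of (S.residueField (T.hom t))) ⟶ S := S.fromSpecResidueField (T.hom t)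
  obtain ⟨t', ht', -⟩ := Scheme.Pullback.exists_preimage_pullback (f := T.hom) (g := σ) t
    (IsLocalRing.closedPoint _) (Scheme.fromSpecResidueField_apply _ _).symm
  have hmap : ∀ f : T ⟶ G, pullback.fst G.hom σ (((Over.pullback σ).map f).left t') = f.left t := fun f => by
    rw [GrpSchLib.Neutral.map_fst]
    exact congrArg f.left ht'
  have key : ∀ f : T ⟶ G, ((Over.pullback σ).map f).left t' ∈ SGA3x.neutralSet (Red.bc σ G) ↔
      f.left t ∈ SGA3x.neutralSet G := fun f => by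
    rw [Groth.Agent.S5322.result]
    show pullback.fst G.hom σ (((Over.pullback σ).map f).left t') ∈ SGA3x.neutralSet G ↔ _
    rw [hmap]
  have h1 := div_mem_field (H := Red.bc σ G) ((Over.pullback σ).map g) ((Over.pullback σ).map h) t' ((key g).mpr hg) ((key h).mpr hh)
  refine (key _).mp ?_
  rw [Functor.map_mul, show (Over.pullback σ).map h⁻¹ = ((Over.pullback σ).map h)⁻¹ from
    eq_inv_of_mul_eq_one_left (by rw [← Functor.map_mul, inv_mul_cancel, Functor.map_one])]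
  exact h1

theorem mul_mem {T : Over S} (g h : T ⟶ G) (t : T.left) (hg : g.left t ∈ SGA3x.neutralSet G)
    (hh : h.left t ∈ SGA3x.neutralSet G) : (g * h).left t ∈ SGA3x.neutralSet G := by
  have := div_mem g (1 * h⁻¹) t hg (div_mem 1 h t (one_mem t) hh)
  rwa [_root_.one_mul, _root_.inv_inv] at this

theorem μ_mem (p : (G ⊗ G).left) (h₁ : (fst G G).left p ∈ SGA3x.neutralSet G)
    (h₂ : (snd G G).left p ∈ SGA3x.neutralSet G) : μ[G].left p ∈ SGA3x.neutralSet G := by
  have := mul_mem (fst G G) (snd G G) p h₁ h₂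
  rwa [Hom.mul_def, lift_fst_snd, Category.id_comp] at this

/-- Affine neighbourhoods of the unit section. -/
theorem exists_affine_nhd (s : S) (O : G.left.Opens) (hO : GrpSchLib.Neutral.unit G s ∈ O) :
    ∃ (V : S.Opens) (W : G.left.Opens), s ∈ V ∧ IsAffineOpen V ∧ IsAffineOpen W ∧ W ≤ G.hom ⁻¹ᵁ V ∧ W ≤ O ∧
      ∀ t ∈ V, GrpSchLib.Neutral.unit G t ∈ W := by
  obtain ⟨S₁, hS₁, hs₁, -⟩ := exists_isAffineOpen_mem_and_subset (show s ∈ (⊤ : S.Opens) from trivial)
  obtain ⟨U, hU, heU, hUS⟩ := exists_isAffineOpen_mem_and_subset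
    (show GrpSchLib.Neutral.unit G s ∈ O ⊓ G.hom ⁻¹ᵁ S₁ from
      ⟨hO, by show G.hom (GrpSchLib.Neutral.unit G s) ∈ S₁; rwa [GrpSchLib.Neutral.hom_unit]⟩)
  obtain ⟨V, hV, hsV, hVU⟩ := exists_isAffineOpen_mem_and_subset
    (show s ∈ S₁ ⊓ GrpSchLib.Neutral.unit G ⁻¹ᵁ U from ⟨hs₁, heU⟩)
  refine ⟨V, U ⊓ G.hom ⁻¹ᵁ V, hsV, hV, ?_, inf_le_right, fun x hx => (hUS hx.1).1,
    fun t ht => ⟨(hVU ht).2, by show G.hom (GrpSchLib.Neutral.unit G t) ∈ V; rwa [GrpSchLib.Neutral.hom_unit]⟩⟩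
  haveI : IsAffine (S₁ : Scheme.{u}) := hS₁
  haveI : IsAffine (U : Scheme.{u}) := hU
  have hU' : U ≤ G.hom ⁻¹ᵁ S₁ := fun x hx => (hUS hx).2
  have h1 : (G.hom.resLE S₁ U hU') ⁻¹ᵁ (S₁.ι ⁻¹ᵁ V) = U.ι ⁻¹ᵁ (G.hom ⁻¹ᵁ V) := by
    rw [← Scheme.Hom.comp_preimage, Scheme.Hom.resLE_comp_ι, Scheme.Hom.comp_preimage]
  have h2 : IsAffineOpen (S₁.ι ⁻¹ᵁ V) := hV.preimage_of_isOpenImmersion S₁.ι (by
    rw [Scheme.Opens.opensRange_ι]; exact fun z hz => (hVU hz).1)
  haveI : IsAffineHom (G.hom.resLE S₁ U hU') := isAffineHom_of_isAffine _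
  have h3 := h2.preimage (G.hom.resLE S₁ U hU')
  rw [h1] at h3
  have h4 := h3.image_of_isOpenImmersion U.ι
  rwa [Scheme.Hom.image_preimage_eq_opensRange_inf, Scheme.Opens.opensRange_ι] at h4

/-- An open part of the neutral components around the unit section. -/
theorem exists_open_nhd (U : G.left.Opens) (hU : Smooth (U.ι ≫ G.hom)) (s : S)
    (he : GrpSchLib.Neutral.unit G s ∈ U) :
    ∃ (V : S.Opens) (W : G.left.Opens), s ∈ V ∧ Smooth (W.ι ≫ G.hom) ∧
      (W : Set G.left) ⊆ SGA3x.neutralSet G ∧ ∀ t ∈ V, GrpSchLib.Neutral.unit G t ∈ W := by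
  obtain ⟨V, W, hsV, hV, hW, hWV, hWU, hWe⟩ := exists_affine_nhd s U he
  haveI : IsAffine (W : Scheme.{u}) := hW
  let f : W.toScheme ⟶ V.toScheme := G.hom.resLE V W hWV
  haveI hWs : Smooth (W.ι ≫ G.hom) := by
    rw [← Scheme.homOfLE_ι G.left hWU, Category.assoc]
    infer_instance
  haveI : Smooth f := by
    haveI : Smooth (f ≫ V.ι) := by rw [Scheme.Hom.resLE_comp_ι]; exact hWs
    exact MorphismProperty.of_postcomp @Smooth (W' := @IsOpenImmersion) f V.ι inferInstance this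
  let e : V.toScheme ⟶ W.toScheme := IsOpenImmersion.lift W.ι (V.ι ≫ GrpSchLib.Neutral.unit G) (by
    rintro _ ⟨t, rfl⟩
    rw [Scheme.Opens.range_ι]
    exact hWe _ t.2)
  have hef : e ≫ f = 𝟙 _ := by
    rw [← cancel_mono V.ι, Category.assoc, Scheme.Hom.resLE_comp_ι, IsOpenImmersion.lift_fac_assoc,
      Category.assoc, Category.id_comp]
    exact (congrArg (V.ι ≫ ·) (Over.w η[G])).trans (Category.comp_id _)
  have hop := Groth.Agent.S15351.result f e hef
  have heι : ∀ t, W.ι (e t) = GrpSchLib.Neutral.unit G (V.ι t) := fun t => by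
    rw [← Scheme.Hom.comp_apply, IsOpenImmersion.lift_fac, Scheme.Hom.comp_apply]
  refine ⟨V, ⟨W.ι '' MoreMor.sectionComponents f e, W.ι.isOpenEmbedding.isOpenMap _ hop⟩, hsV, ?_, ?_, ?_⟩
  · have hle : (⟨W.ι '' MoreMor.sectionComponents f e, W.ι.isOpenEmbedding.isOpenMap _ hop⟩ : G.left.Opens) ≤ W := by
      rintro _ ⟨z, -, rfl⟩
      exact z.2
    rw [← Scheme.homOfLE_ι G.left hle, Category.assoc]
    infer_instance
  · rintro _ ⟨z, hz, rfl⟩
    have hfib : ∀ w, G.hom (W.ι w) = V.ι (f w) := fun w => by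
      rw [← Scheme.Hom.comp_apply, ← Scheme.Hom.comp_apply, Scheme.Hom.resLE_comp_ι]
    rw [GrpSchLib.Neutral.mem_neutralSet_iff, hfib]
    refine (isPreconnected_connectedComponentIn.image _ W.ι.continuous.continuousOn).subset_connectedComponentIn
      ⟨e (f z), mem_connectedComponentIn (congrArg (fun φ : V.toScheme ⟶ V.toScheme => φ (f z)) hef), heι _⟩ ?_
      ⟨z, hz, rfl⟩
    rintro _ ⟨w, hw, rfl⟩
    have h' : f w = f z := connectedComponentIn_subset (f ⁻¹' {f z}) _ hw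
    show G.hom (W.ι w) = _
    rw [hfib, h']
  · intro t ht
    have h : f (e ⟨t, ht⟩) = ⟨t, ht⟩ := congrArg (fun φ : V.toScheme ⟶ V.toScheme => φ ⟨t, ht⟩) hef
    exact ⟨e ⟨t, ht⟩, show e ⟨t, ht⟩ ∈ connectedComponentIn _ (e (f (e ⟨t, ht⟩))) from
      (by rw [h]; exact mem_connectedComponentIn h), heι _⟩

/-- Multiplication on a smooth open subset is smooth onto an open subset of the neutral components. -/
theorem exists_mul_open (W : G.left.Opens) (hW : Smooth (W.ι ≫ G.hom))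
    (hWN : (W : Set G.left) ⊆ SGA3x.neutralSet G) :
    ∃ (M : G.left.Opens), Smooth (M.ι ≫ G.hom) ∧ (M : Set G.left) ⊆ SGA3x.neutralSet G ∧
      ∀ x ∈ SGA3x.neutralSet G, GrpSchLib.Neutral.unit G (G.hom x) ∈ W → x ∈ M := by
  let j : Over.mk (W.ι ≫ G.hom) ⟶ G := Over.homMk W.ι rfl
  let τ : G ⊗ G ≅ G ⊗ G :=
    { hom := lift (fst G G) μ[G]
      inv := lift (fst G G) ((fst G G)⁻¹ * snd G G)
      hom_inv_id := by
        apply CartesianMonoidalCategory.hom_ext
        · simp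
        · rw [Category.assoc, lift_snd, Category.id_comp, MonObj.comp_mul, GrpObj.comp_inv, lift_fst, lift_snd,
            show μ[G] = fst G G * snd G G by rw [Hom.mul_def, lift_fst_snd, Category.id_comp], inv_mul_cancel_left]
      inv_hom_id := by
        apply CartesianMonoidalCategory.hom_ext
        · simp
        · rw [Category.assoc, lift_snd, Category.id_comp, show μ[G] = fst G G * snd G G by
            rw [Hom.mul_def, lift_fst_snd, Category.id_comp], MonObj.comp_mul, lift_fst, lift_snd, mul_inv_cancel_left] }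
  let m : pullback (W.ι ≫ G.hom) (W.ι ≫ G.hom) ⟶ (G ⊗ G).left :=
    pullback.map (W.ι ≫ G.hom) (W.ι ≫ G.hom) G.hom G.hom W.ι W.ι (𝟙 S) (Category.comp_id _) (Category.comp_id _)
  let r : pullback (W.ι ≫ G.hom) G.hom ⟶ (G ⊗ G).left :=
    pullback.map (W.ι ≫ G.hom) G.hom G.hom G.hom W.ι (𝟙 _) (𝟙 S) (Category.comp_id _) (by simp)
  haveI : IsOpenImmersion m := inferInstance
  haveI : IsOpenImmersion r := inferInstance
  haveI : IsIso τ.hom.left := ((Over.forget _).mapIso τ).isIso_hom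
  have hm1 : m ≫ (fst G G).left = pullback.fst _ _ ≫ W.ι := pullback.lift_fst _ _ _
  have hm2 : m ≫ (snd G G).left = pullback.snd _ _ ≫ W.ι := pullback.lift_snd _ _ _
  have hw : (pullback.fst (W.ι ≫ G.hom) (W.ι ≫ G.hom)) ≫ W.ι ≫ G.hom = (m ≫ μ[G].left) ≫ G.hom := by
    rw [Category.assoc, Over.w μ[G], ← Over.w (fst G G), reassoc_of% hm1]
  let q : pullback (W.ι ≫ G.hom) (W.ι ≫ G.hom) ⟶ pullback (W.ι ≫ G.hom) G.hom :=
    pullback.lift (pullback.fst _ _) (m ≫ μ[G].left) hw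
  have hτ1 : τ.hom.left ≫ (fst G G).left = (fst G G).left := by
    rw [← Over.comp_left, show τ.hom ≫ fst G G = fst G G from lift_fst _ _]
  have hτ2 : τ.hom.left ≫ (snd G G).left = μ[G].left := by
    rw [← Over.comp_left, show τ.hom ≫ snd G G = μ[G] from lift_snd _ _]
  have hr1 : r ≫ (fst G G).left = pullback.fst _ _ ≫ W.ι := pullback.lift_fst _ _ _
  have hr2 : r ≫ (snd G G).left = pullback.snd _ _ :=
    (pullback.lift_snd _ _ _).trans (Category.comp_id _)
  have hq : q ≫ r = m ≫ τ.hom.left := by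
    apply pullback.hom_ext
    · show (q ≫ r) ≫ (fst G G).left = (m ≫ τ.hom.left) ≫ (fst G G).left
      rw [Category.assoc, Category.assoc, hr1, hτ1, hm1, pullback.lift_fst_assoc]
    · show (q ≫ r) ≫ (snd G G).left = (m ≫ τ.hom.left) ≫ (snd G G).left
      rw [Category.assoc, Category.assoc, hr2, hτ2, pullback.lift_snd]
  haveI : IsOpenImmersion (q ≫ r) := by rw [hq]; infer_instance
  haveI : IsOpenImmersion q := IsOpenImmersion.of_comp q r
  haveI : Smooth (pullback.snd (W.ι ≫ G.hom) G.hom) := MorphismProperty.pullback_snd _ _ hW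
  have hqs : q ≫ pullback.snd (W.ι ≫ G.hom) G.hom = m ≫ μ[G].left := pullback.lift_snd _ _ _
  haveI : Smooth (m ≫ μ[G].left) := by rw [← hqs]; infer_instance
  let M : G.left.Opens := ⟨Set.range (m ≫ μ[G].left), (m ≫ μ[G].left).isOpenMap.isOpen_range⟩
  refine ⟨M, ?_, ?_, fun x hx he => ?_⟩
  · let p : pullback (W.ι ≫ G.hom) (W.ι ≫ G.hom) ⟶ M.toScheme :=
      IsOpenImmersion.lift M.ι (m ≫ μ[G].left) (by rw [Scheme.Opens.range_ι]; exact le_rfl)
    have hp : p ≫ M.ι = m ≫ μ[G].left := IsOpenImmersion.lift_fac _ _ _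
    haveI : Smooth (p ≫ M.ι) := by rw [hp]; infer_instance
    haveI : Smooth p := MorphismProperty.of_postcomp @Smooth (W' := @IsOpenImmersion) p M.ι inferInstance this
    haveI : Surjective p := ⟨fun y => by
      obtain ⟨z, hz⟩ : y.1 ∈ Set.range (m ≫ μ[G].left) := y.2
      refine ⟨z, M.ι.isOpenEmbedding.injective ?_⟩
      rw [← Scheme.Hom.comp_apply, hp]
      exact hz⟩
    haveI : Smooth (pullback.fst (W.ι ≫ G.hom) (W.ι ≫ G.hom)) := MorphismProperty.pullback_fst _ _ hW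
    refine SrcDescent.smooth_of_smooth_comp p (M.ι ≫ G.hom) ?_
    rw [reassoc_of% hp, ← Category.assoc, ← hw]
    infer_instance
  · rintro _ ⟨z, rfl⟩
    rw [Scheme.Hom.comp_apply]
    refine μ_mem _ (hWN ?_) (hWN ?_)
    · rw [← Scheme.Hom.comp_apply, hm1, Scheme.Hom.comp_apply]
      exact (pullback.fst (W.ι ≫ G.hom) (W.ι ≫ G.hom) z).2
    · rw [← Scheme.Hom.comp_apply, hm2, Scheme.Hom.comp_apply]
      exact (pullback.snd (W.ι ≫ G.hom) (W.ι ≫ G.hom) z).2
  · obtain ⟨p, hp1, hp2, hp⟩ := GrpSchLib.Neutral.exists_mul G hx W he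
    have hr : Set.range m = (fst G G).left ⁻¹' Set.range W.ι ∩ (snd G G).left ⁻¹' Set.range W.ι :=
      Scheme.Pullback.range_map _ _ _ _ _ _ _ _ _
    obtain ⟨z, hz⟩ : p ∈ Set.range m := by
      rw [hr, Scheme.Opens.range_ι]; exact ⟨hp1, hp2⟩
    exact ⟨z, by rw [Scheme.Hom.comp_apply, hz]; exact hp⟩

variable (U : G.left.Opens) (hU : Smooth (U.ι ≫ G.hom)) (he : ∀ s, GrpSchLib.Neutral.unit G s ∈ U)

include hU he in
theorem exists_smooth_open (x : G.left) (hx : x ∈ SGA3x.neutralSet G) :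
    ∃ M : G.left.Opens, x ∈ M ∧ Smooth (M.ι ≫ G.hom) ∧ (M : Set G.left) ⊆ SGA3x.neutralSet G := by
  obtain ⟨V, W, hsV, hW, hWN, hWe⟩ := exists_open_nhd U hU (G.hom x) (he _)
  obtain ⟨M, hM, hMN, hMx⟩ := exists_mul_open W hW hWN
  exact ⟨M, hMx x hx (hWe _ hsV), hM, hMN⟩

include hU he in
theorem isOpen_neutralSet : IsOpen (SGA3x.neutralSet G) :=
  isOpen_iff_forall_mem_open.mpr fun x hx =>
    let ⟨M, hxM, _, hMN⟩ := exists_smooth_open U hU he x hx
    ⟨M, hMN, M.isOpen, hxM⟩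

include hU he in
theorem smooth_neutral (N : G.left.Opens) (hN : (N : Set G.left) = SGA3x.neutralSet G) : Smooth (N.ι ≫ G.hom) := by
  have hx : ∀ y : N.toScheme, ∃ M : G.left.Opens, y.1 ∈ M ∧ Smooth (M.ι ≫ G.hom) ∧
      (M : Set G.left) ⊆ SGA3x.neutralSet G := fun y => exists_smooth_open U hU he y.1 (hN ▸ y.2)
  choose M hyM hM hMN using hx
  refine IsZariskiLocalAtSource.of_iSup_eq_top (P := @Smooth) (fun y : N.toScheme => N.ι ⁻¹ᵁ M y) ?_ fun y => ?_
  · exact TopologicalSpace.Opens.ext (Set.eq_univ_of_forall fun y => TopologicalSpace.Opens.mem_iSup.mpr ⟨y, hyM y⟩)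
  · have hle : Set.range ((N.ι ⁻¹ᵁ M y).ι ≫ N.ι) ⊆ Set.range (M y).ι := by
      rintro _ ⟨z, rfl⟩
      rw [Scheme.Opens.range_ι]
      exact z.2
    rw [← Category.assoc, ← IsOpenImmersion.lift_fac (M y).ι _ hle, Category.assoc]
    haveI := hM y
    haveI : IsOpenImmersion (IsOpenImmersion.lift (M y).ι ((N.ι ⁻¹ᵁ M y).ι ≫ N.ι) hle) := by
      haveI : IsOpenImmersion (IsOpenImmersion.lift (M y).ι ((N.ι ⁻¹ᵁ M y).ι ≫ N.ι) hle ≫ (M y).ι) := by
        rw [IsOpenImmersion.lift_fac]; infer_instance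
      exact IsOpenImmersion.of_comp _ (M y).ι
    infer_instance

theorem quasiCompact_neutral (N : G.left.Opens) (hN : (N : Set G.left) = SGA3x.neutralSet G) :
    QuasiCompact (N.ι ≫ G.hom) := by
  have hs : ∀ s, ∃ V : S.Opens, s ∈ V ∧ IsAffineOpen V ∧ IsCompact ((N : Set G.left) ∩ G.hom ⁻¹' V) := by
    intro s
    obtain ⟨V, W, hsV, hV, hW, hWV, hWN, hWe⟩ := exists_affine_nhd s N
      (show GrpSchLib.Neutral.unit G s ∈ (N : Set G.left) from hN ▸ GrpSchLib.Neutral.unit_mem_neutralSet G s)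
    haveI : IsAffine (W : Scheme.{u}) := hW
    haveI : IsAffine (V : Scheme.{u}) := hV
    let a := G.hom.resLE V W hWV
    haveI : IsAffineHom a := isAffineHom_of_isAffine _
    let m : pullback a a ⟶ (G ⊗ G).left :=
      pullback.map a a G.hom G.hom W.ι W.ι V.ι (Scheme.Hom.resLE_comp_ι _ _) (Scheme.Hom.resLE_comp_ι _ _)
    have hm1 : m ≫ (fst G G).left = pullback.fst a a ≫ W.ι := pullback.lift_fst _ _ _
    have hm2 : m ≫ (snd G G).left = pullback.snd a a ≫ W.ι := pullback.lift_snd _ _ _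
    refine ⟨V, hsV, hV, ?_⟩
    suffices (N : Set G.left) ∩ G.hom ⁻¹' V = Set.range (m ≫ μ[G].left) from
      this ▸ isCompact_range (m ≫ μ[G].left).continuous
    ext x
    constructor
    · rintro ⟨hxN, hxV⟩
      obtain ⟨p, hp1, hp2, hp⟩ := GrpSchLib.Neutral.exists_mul G (hN ▸ hxN) W (hWe _ hxV)
      have hr : Set.range m = (fst G G).left ⁻¹' Set.range W.ι ∩ (snd G G).left ⁻¹' Set.range W.ι :=
        Scheme.Pullback.range_map _ _ _ _ _ _ _ _ _
      obtain ⟨z, hz⟩ : p ∈ Set.range m := by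
        rw [hr, Scheme.Opens.range_ι]; exact ⟨hp1, hp2⟩
      exact ⟨z, by rw [Scheme.Hom.comp_apply, hz]; exact hp⟩
    · rintro ⟨z, rfl⟩
      constructor
      · rw [hN, Scheme.Hom.comp_apply]
        refine μ_mem _ (hN ▸ hWN ?_) (hN ▸ hWN ?_)
        · rw [← Scheme.Hom.comp_apply, hm1, Scheme.Hom.comp_apply]
          exact (pullback.fst a a z).2
        · rw [← Scheme.Hom.comp_apply, hm2, Scheme.Hom.comp_apply]
          exact (pullback.snd a a z).2
      · have h : (m ≫ μ[G].left) ≫ G.hom = (pullback.fst a a ≫ a) ≫ V.ι := by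
          rw [Category.assoc, Over.w μ[G], ← Over.w (fst G G), reassoc_of% hm1, Category.assoc,
            Scheme.Hom.resLE_comp_ι]
        show G.hom _ ∈ V
        rw [← Scheme.Hom.comp_apply, h, Scheme.Hom.comp_apply]
        exact ((pullback.fst a a ≫ a) z).2
  choose V hsV hV hc using hs
  refine (IsZariskiLocalAtTarget.iff_of_iSup_eq_top (P := @QuasiCompact) (fun s : S => V s)
    (TopologicalSpace.Opens.ext (Set.eq_univ_of_forall fun s => TopologicalSpace.Opens.mem_iSup.mpr ⟨s, hsV s⟩))).mpr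
    fun s => ?_
  haveI : IsAffine (V s : Scheme.{u}) := hV s
  rw [quasiCompact_iff_compactSpace]
  refine isCompact_iff_compactSpace.mp ?_
  rw [N.ι.isOpenEmbedding.isInducing.isCompact_iff]
  have h : N.ι '' ↑((N.ι ≫ G.hom) ⁻¹ᵁ V s) = (N : Set G.left) ∩ G.hom ⁻¹' (V s) := by
    ext x
    constructor
    · rintro ⟨z, hz, rfl⟩
      exact ⟨z.2, hz⟩
    · rintro ⟨hxN, hxV⟩
      exact ⟨⟨x, hxN⟩, hxV, rfl⟩
  rw [h]
  exact hc s

/-- The open subgroup carried by the neutral components. -/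
theorem exists_openSubgroup (N : G.left.Opens) (hN : (N : Set G.left) = SGA3x.neutralSet G) :
    ∃ _ : GrpObj (Over.mk (N.ι ≫ G.hom)), IsMonHom (Over.homMk N.ι rfl : Over.mk (N.ι ≫ G.hom) ⟶ G) := by
  let i : Over.mk (N.ι ≫ G.hom) ⟶ G := Over.homMk N.ι rfl
  haveI : Mono i := (Over.forget _).mono_of_mono_map (inferInstanceAs (Mono N.ι))
  have hl : ∀ {T : Over S} (g : T ⟶ G), (∀ t, g.left t ∈ SGA3x.neutralSet G) → ∃ h, h ≫ i = g := fun {T} g hg => by
    have hr : Set.range g.left ⊆ Set.range N.ι := by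
      rintro _ ⟨t, rfl⟩
      rw [Scheme.Opens.range_ι, hN]
      exact hg t
    exact ⟨Over.homMk (IsOpenImmersion.lift N.ι g.left hr) (by
      show _ ≫ N.ι ≫ G.hom = _
      rw [IsOpenImmersion.lift_fac_assoc, Over.w]), Over.OverMorphism.ext (IsOpenImmersion.lift_fac _ _ _)⟩
  have hi : ∀ t, i.left t ∈ SGA3x.neutralSet G := fun t => hN ▸ (show N.ι t ∈ N from t.2)
  obtain ⟨e, he⟩ := hl η[G] fun t => by rw [MonObj.one_eq_one]; exact one_mem t
  obtain ⟨m, hm⟩ := hl ((fst _ _ ≫ i) * (snd (Over.mk (N.ι ≫ G.hom)) (Over.mk (N.ι ≫ G.hom)) ≫ i)) fun t =>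
    mul_mem _ _ t (hi _) (hi _)
  obtain ⟨v, hv⟩ := hl i⁻¹ fun t => by
    have := div_mem 1 i t (one_mem t) (hi t)
    rwa [_root_.one_mul] at this
  exact GrpSchLib.exists_grpObj_of_mono i e he m hm v hv

end

end Groth.Agent.Deform.Neutral
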