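import Groth.Agent.Deform.Neutral.Constructible
import Groth.Agent.Deform.Homogeneous.Comp
import Groth.Agent.GrpSchLib.HomFlatLft
import Groth.Agent.FlatMisc.Fibrewise
import Groth.Agent.SrcDescent.LocalAtSource

/-!
# Flat homomorphisms and the neutral components (VI_B 3.11)
-/

set_option autoImplicit false

universe u

open CategoryTheory CategoryTheory.Limits MonoidalCategory CartesianMonoidalCategory MonObj GrpObj AlgebraicGeometry

attribute [local instance] CategoryTheory.Hom.monoid CategoryTheory.Hom.group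
set_option linter.style.haveILetI false
set_option linter.unusedSectionVars false

namespace Groth.Agent.Deform.Neutral

noncomputable section

open GrpSchLib GrpSchLib.HomFlatLft

/-- A homomorphism over an algebraically closed field which is flat somewhere is flat. -/
theorem flat_of_flat_at_algClosed {K : Type u} [Field K] [IsAlgClosed K]
    {G H : Over (Spec (CommRingCat.of K))} [GrpObj G] [GrpObj H] [LocallyOfFiniteType G.hom]
    [LocallyOfFiniteType H.hom] (f : G ⟶ H) [IsMonHom f]
    (η₀ : G.left) (hη₀ : (f.left.stalkMap η₀).hom.Flat) : Flat f.left := by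
  haveI : IsLocallyNoetherian (Spec (CommRingCat.of K)) := inferInstance
  haveI : IsLocallyNoetherian H.left := LocallyOfFiniteType.isLocallyNoetherian H.hom
  haveI : LocallyOfFiniteType (f.left ≫ H.hom) := by rw [Over.w f]; infer_instance
  haveI : LocallyOfFinitePresentation (f.left ≫ H.hom) := inferInstance
  haveI : Flat H.hom := inferInstance
  let O := {x : G.left | (H.hom.stalkMap (f.left x)).hom.Flat ∧ (f.left.stalkMap x).hom.Flat}
  have hO : IsOpen O := (S1386.result f.left H.hom).2
  have hηO : η₀ ∈ O := ⟨Flat.stalkMap H.hom _, hη₀⟩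
  haveI : JacobsonSpace G.left := LocallyOfFiniteType.jacobsonSpace G.hom
  obtain ⟨x₀, hx₀, hx₀c⟩ := nonempty_inter_closedPoints (Z := O) ⟨_, hηO⟩ hO.isLocallyClosed
  have hpt : ∀ x : G.left, IsClosed {x} → ∃ a : 𝟙_ (Over (Spec (CommRingCat.of K))) ⟶ G,
      a.left (IsLocalRing.closedPoint K) = x := fun x hx => by
    let s := (pointEquivClosedPoint G.hom).symm ⟨x, hx⟩
    exact ⟨Over.homMk s.1 s.2, congrArg Subtype.val ((pointEquivClosedPoint G.hom).apply_symm_apply ⟨x, hx⟩)⟩
  have hall : closedPoints G.left ⊆ O := fun x hx => by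
    refine ⟨Flat.stalkMap H.hom _, ?_⟩
    obtain ⟨a₀, ha₀⟩ := hpt x₀ hx₀c
    obtain ⟨a, ha⟩ := hpt x hx
    let S := rTrans (a₀⁻¹ * a)
    let T := rTrans ((a₀⁻¹ * a) ≫ f)
    have haS : a₀ ≫ S.hom = a := by
      simp only [S, rTrans, MonObj.comp_mul, Category.comp_id, ← Category.assoc, comp_toUnit,
        toUnit_unique (toUnit (𝟙_ (Over (Spec (CommRingCat.of K))))) (𝟙 _), Category.id_comp]
      exact mul_inv_cancel_left a₀ a
    haveI : IsIso S.hom.left := ((Over.forget _).mapIso S).isIso_hom
    haveI : IsIso T.hom.left := ((Over.forget _).mapIso T).isIso_hom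
    have hx' : S.hom.left x₀ = x := by rw [← ha₀, ← ha, ← haS]; rfl
    subst hx'
    have hcomp : (Scheme.Hom.stalkMap (f.left ≫ T.hom.left) x₀).hom.Flat := by
      erw [Scheme.Hom.stalkMap_comp, CommRingCat.hom_comp]
      exact RingHom.Flat.comp (Flat.stalkMap T.hom.left _) hx₀.2
    have e : S.hom.left ≫ f.left = f.left ≫ T.hom.left := congrArg CommaMorphism.left (rTrans_comm f (a₀⁻¹ * a))
    have h2 : (Scheme.Hom.stalkMap (S.hom.left ≫ f.left) x₀).hom.Flat := by
      revert hcomp
      generalize f.left ≫ T.hom.left = g at e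
      subst e
      exact id
    erw [Scheme.Hom.stalkMap_comp, CommRingCat.hom_comp] at h2
    have hb := ConcreteCategory.bijective_of_isIso (S.hom.left.stalkMap x₀)
    let E := RingEquiv.ofBijective _ hb
    have h3 := h2.comp (RingHom.Flat.of_bijective (f := E.symm.toRingHom) E.symm.bijective)
    have he : E.symm.toRingHom.comp ((S.hom.left.stalkMap x₀).hom.comp (f.left.stalkMap (S.hom.left x₀)).hom) =
        (f.left.stalkMap (S.hom.left x₀)).hom := RingHom.ext fun b => E.symm_apply_apply _
    exact he ▸ h3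
  refine Flat.of_stalkMap _ fun x => ?_
  by_contra hx
  obtain ⟨y, hy, hyc⟩ := nonempty_inter_closedPoints (Z := closure ({x} : Set G.left)) ⟨x, subset_closure rfl⟩
    isClosed_closure.isLocallyClosed
  exact hx ((specializes_iff_mem_closure.mpr hy).mem_open hO (hall hyc)).2

theorem isPullback_map {S S' : Scheme.{u}} (σ : S' ⟶ S) {G H : Over S} (f : G ⟶ H) :
    IsPullback ((Over.pullback σ).map f).left (pullback.fst G.hom σ) (pullback.fst H.hom σ) f.left := by
  refine IsPullback.of_right ?_ ?_ (IsPullback.of_hasPullback H.hom σ).flip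
  · rw [Over.w f, show ((Over.pullback σ).map f).left ≫ pullback.snd H.hom σ = pullback.snd G.hom σ from Over.w _]
    exact (IsPullback.of_hasPullback G.hom σ).flip
  · exact pullback.lift_fst _ _ _

section field

variable {k : Type u} [Field k] {G H : Over (Spec (CommRingCat.of k))} [GrpObj G] [GrpObj H]
  [LocallyOfFiniteType G.hom] [LocallyOfFiniteType H.hom] (f : G ⟶ H) [IsMonHom f]

/-- A homomorphism to a reduced group reaching a maximal point is flat. -/
theorem flat_of_mem_range [IsReduced H.left] {c : H.left} (hc : IsMaxPt c) (η₀ : G.left) (hη₀ : f.left η₀ = c) :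
    Flat f.left := by
  subst hη₀
  haveI : LocallyOfFiniteType (f.left ≫ H.hom) := by rw [Over.w f]; infer_instance
  haveI : LocallyOfFinitePresentation (f.left ≫ H.hom) := inferInstance
  have hstalk : (f.left.stalkMap η₀).hom.Flat := by
    have hd : ringKrullDim (H.left.presheaf.stalk (f.left η₀)) = 0 := by
      rw [ringKrullDim_stalk_eq_coheight]
      simp only [WithBot.coe_eq_zero, Order.coheight_eq_zero]
      intro w hw
      exact le_of_eq (hc w hw)
    haveI : Ring.KrullDimLE 0 (H.left.presheaf.stalk (f.left η₀)) :=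
      Ring.krullDimLE_iff.2 (by simpa using hd.le)
    exact RingHom.Flat.of_isField (Ring.KrullDimLE.isField_of_isReduced) _
  let O : G.left.Opens := ⟨{x : G.left | (H.hom.stalkMap (f.left x)).hom.Flat ∧ (f.left.stalkMap x).hom.Flat},
    (S1386.result f.left H.hom).2⟩
  haveI : Flat (O.ι ≫ f.left) := Flat.of_stalkMap _ fun x => by
    erw [Scheme.Hom.stalkMap_comp, CommRingCat.hom_comp]
    exact RingHom.Flat.comp (x.2).2 (Flat.stalkMap O.ι x)
  let K : Type u := AlgebraicClosure k
  let τ : Spec (CommRingCat.of K) ⟶ Spec (CommRingCat.of k) := Spec.map (CommRingCat.ofHom (algebraMap k K))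
  haveI : Flat τ := by
    rw [HasRingHomProperty.Spec_iff (P := @Flat)]
    exact RingHom.Flat.of_isField (Field.toIsField k) _
  haveI : Surjective τ := ⟨Function.surjective_to_subsingleton (α := Spec (CommRingCat.of K))
    (β := Spec (CommRingCat.of k)) _⟩
  let fK : Red.bc τ G ⟶ Red.bc τ H := (Over.pullback τ).map f
  haveI : LocallyOfFiniteType (Red.bc τ G).hom := inferInstanceAs (LocallyOfFiniteType (pullback.snd G.hom τ))
  haveI : LocallyOfFiniteType (Red.bc τ H).hom := inferInstanceAs (LocallyOfFiniteType (pullback.snd H.hom τ))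
  have sqf := isPullback_map τ f
  haveI : Flat (pullback.fst G.hom τ) := inferInstance
  haveI : Surjective (pullback.fst G.hom τ) := inferInstance
  haveI : Flat (pullback.fst H.hom τ) := inferInstance
  obtain ⟨z₀, hz₀⟩ := (pullback.fst G.hom τ).surjective η₀
  let OK : (Red.bc τ G).left.Opens := pullback.fst G.hom τ ⁻¹ᵁ O
  have sqO : IsPullback (pullback.fst G.hom τ ∣_ O) (OK.ι ≫ fK.left) (O.ι ≫ f.left) (pullback.fst H.hom τ) :=
    (isPullback_morphismRestrict _ _).paste_vert sqf.flip
  haveI : Flat (OK.ι ≫ fK.left) := MorphismProperty.of_isPullback sqO ‹Flat (O.ι ≫ f.left)›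
  haveI : Flat fK.left := by
    let z : OK.toScheme := ⟨z₀, show pullback.fst G.hom τ z₀ ∈ O from hz₀ ▸ ⟨Flat.stalkMap H.hom _, hstalk⟩⟩
    refine flat_of_flat_at_algClosed fK z₀ ?_
    have h := Flat.stalkMap (OK.ι ≫ fK.left) z
    erw [Scheme.Hom.stalkMap_comp, CommRingCat.hom_comp] at h
    let E := RingEquiv.ofBijective _ (ConcreteCategory.bijective_of_isIso (OK.ι.stalkMap z))
    have h3 := h.comp (RingHom.Flat.of_bijective (f := E.symm.toRingHom) E.symm.bijective)
    have he : E.symm.toRingHom.comp ((OK.ι.stalkMap z).hom.comp (fK.left.stalkMap (OK.ι z)).hom) =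
        (fK.left.stalkMap (OK.ι z)).hom := RingHom.ext fun b => E.symm_apply_apply _
    exact he ▸ h3
  refine Flat.of_stalkMap _ fun x => ?_
  obtain ⟨z, hz⟩ := (pullback.fst G.hom τ).surjective x
  have hflat : Flat (pullback.fst G.hom τ ≫ f.left) := by rw [← sqf.w]; infer_instance
  exact hz ▸ SrcDescent.flat_of_flat_comp (pullback.fst G.hom τ) f.left z hflat

theorem apply_one_field : f.left (η[G].left (IsLocalRing.closedPoint k)) = η[H].left (IsLocalRing.closedPoint k) := by
  rw [← Scheme.Hom.comp_apply, ← Over.comp_left, IsMonHom.one_hom]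

theorem mapsTo_neutralSet : Set.MapsTo f.left (SGA3x.neutralSet G) (SGA3x.neutralSet H) := by
  intro x hx
  rw [neutralSet_field] at hx ⊢
  refine f.left.continuous.image_connectedComponent_subset _ ⟨x, hx, rfl⟩ |> fun h => ?_
  rwa [apply_one_field f] at h

/-- A flat homomorphism maps the neutral component onto the neutral component. -/
theorem image_neutralSet_of_flat [Flat f.left] : f.left '' SGA3x.neutralSet G = SGA3x.neutralSet H := by
  refine subset_antisymm (mapsTo_neutralSet f).image_subset fun x hx => ?_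
  haveI : LocallyOfFinitePresentation H.hom := inferInstance
  haveI : LocallyOfFiniteType (f.left ≫ H.hom) := by rw [Over.w f]; infer_instance
  haveI : LocallyOfFinitePresentation (f.left ≫ H.hom) := inferInstance
  haveI : LocallyOfFinitePresentation f.left := S12442.locallyOfFinitePresentation_of_comp f.left H.hom
  haveI : IsLocallyNoetherian G.left := LocallyOfFiniteType.isLocallyNoetherian G.hom
  let O : G.left.Opens := ⟨SGA3x.neutralSet G, by
    rw [neutralSet_field]; exact GrpSchLib.isOpen_connectedComponent (G := G) _⟩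
  let fO : Over.mk (O.ι ≫ G.hom) ⟶ H := Over.homMk (O.ι ≫ f.left) (by
    show (O.ι ≫ f.left) ≫ H.hom = O.ι ≫ G.hom
    rw [Category.assoc, Over.w f])
  let jO : Over.mk (O.ι ≫ G.hom) ⟶ G := Over.homMk O.ι rfl
  have hjf : jO ≫ f = fO := Over.OverMorphism.ext rfl
  let W : H.left.Opens := ⟨Set.range (O.ι ≫ f.left), (O.ι ≫ f.left).isOpenMap.isOpen_range⟩
  obtain ⟨e₀, he₀⟩ : η[G].left (IsLocalRing.closedPoint k) ∈ Set.range O.ι := by
    rw [Scheme.Opens.range_ι]
    show η[G].left (IsLocalRing.closedPoint k) ∈ SGA3x.neutralSet G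
    rw [neutralSet_field]; exact mem_connectedComponent
  obtain ⟨p, hp1, hp2, hp⟩ := exists_mul_neutral (G := H) hx W ⟨e₀, by
    show (O.ι ≫ f.left) e₀ = η[H].left (H.hom x)
    rw [Scheme.Hom.comp_apply, he₀, apply_one_field f]
    exact congrArg η[H].left (@Subsingleton.elim (Spec (CommRingCat.of k)) inferInstance _ _)⟩
  obtain ⟨q, rfl⟩ : p ∈ Set.range (fO ⊗ₘ fO).left := by
    rw [Over.tensorHom_left]
    exact (Scheme.Pullback.range_map _ _ _ _ _ _ _ _ _).ge ⟨hp1.1, hp2.1⟩
  refine ⟨μ[G].left ((jO ⊗ₘ jO).left q), μ_mem _ ?_ ?_, ?_⟩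
  · rw [← Scheme.Hom.comp_apply, ← Over.comp_left, tensorHom_fst, Over.comp_left, Scheme.Hom.comp_apply]
    exact ((fst (Over.mk (O.ι ≫ G.hom)) (Over.mk (O.ι ≫ G.hom))).left q).2
  · rw [← Scheme.Hom.comp_apply, ← Over.comp_left, tensorHom_snd, Over.comp_left, Scheme.Hom.comp_apply]
    exact ((snd (Over.mk (O.ι ≫ G.hom)) (Over.mk (O.ι ≫ G.hom))).left q).2
  · rw [← hp, ← Scheme.Hom.comp_apply, ← Scheme.Hom.comp_apply, ← Scheme.Hom.comp_apply, ← Over.comp_left,
      ← Over.comp_left, ← Over.comp_left]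
    congr 2
    rw [IsMonHom.mul_hom, tensorHom_comp_tensorHom_assoc, hjf]

end field

section base

variable {S : Scheme.{u}} {G H : Over S} [GrpObj G] [GrpObj H] [LocallyOfFinitePresentation G.hom]
  [LocallyOfFinitePresentation H.hom] (f : G ⟶ H) [IsMonHom f]

theorem image_neutralSet_of_flat_base [Flat f.left] : f.left '' SGA3x.neutralSet G = SGA3x.neutralSet H := by
  have key : ∀ s : S, f.left '' (SGA3x.neutralSet G ∩ G.hom ⁻¹' {s}) = SGA3x.neutralSet H ∩ H.hom ⁻¹' {s} := by
    intro s
    let σ : Spec (CommRingCat.of (S.residueField s)) ⟶ S := S.fromSpecResidueField s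
    haveI : LocallyOfFiniteType (Red.bc σ G).hom := inferInstanceAs (LocallyOfFiniteType (pullback.snd G.hom σ))
    haveI : LocallyOfFiniteType (Red.bc σ H).hom := inferInstanceAs (LocallyOfFiniteType (pullback.snd H.hom σ))
    let fs : Red.bc σ G ⟶ Red.bc σ H := (Over.pullback σ).map f
    haveI : Flat fs.left := MorphismProperty.of_isPullback (isPullback_map σ f).flip ‹Flat f.left›
    have h := image_neutralSet_of_flat fs
    rw [GrpSchLib.Neutral.neutralSet_bc G σ, GrpSchLib.Neutral.neutralSet_bc H σ] at h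
    have e : ∀ (A : Over S) [GrpObj A], pullback.fst A.hom σ '' (pullback.fst A.hom σ ⁻¹' (SGA3x.neutralSet A)) =
        SGA3x.neutralSet A ∩ A.hom ⁻¹' {s} := fun A _ => by
      rw [Set.image_preimage_eq_inter_range]
      exact congrArg _ (Scheme.Hom.range_fiberι A.hom s)
    have e2 : f.left ∘ pullback.fst G.hom σ = pullback.fst H.hom σ ∘ fs.left := funext fun z => by
      simp only [Function.comp]
      rw [← Scheme.Hom.comp_apply, ← (isPullback_map σ f).w, Scheme.Hom.comp_apply]
    rw [← e G, ← e H, ← Set.image_comp, e2, Set.image_comp, h]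
  ext y
  constructor
  · rintro ⟨x, hx, rfl⟩
    exact ((key (G.hom x)).le ⟨x, ⟨hx, rfl⟩, rfl⟩).1
  · intro hy
    obtain ⟨x, hx, hxy⟩ := (key (H.hom y)).ge ⟨hy, rfl⟩
    exact ⟨x, hx.1, hxy⟩

theorem flat_of_image_neutralSet [Flat G.hom] (hred : ∀ s : S, IsReduced (H.hom.fiber s))
    (him : f.left '' SGA3x.neutralSet G = SGA3x.neutralSet H) : Flat f.left := by
  haveI : LocallyOfFinitePresentation (f.left ≫ H.hom) := by rw [Over.w f]; infer_instance
  haveI : Flat (f.left ≫ H.hom) := by rw [Over.w f]; infer_instance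
  refine FlatMisc.flat_of_flat_fibres H.hom f.left fun s => ?_
  let σ : Spec (CommRingCat.of (S.residueField s)) ⟶ S := S.fromSpecResidueField s
  haveI : LocallyOfFiniteType (Red.bc σ G).hom := inferInstanceAs (LocallyOfFiniteType (pullback.snd G.hom σ))
  haveI : LocallyOfFiniteType (Red.bc σ H).hom := inferInstanceAs (LocallyOfFiniteType (pullback.snd H.hom σ))
  haveI : IsReduced (Red.bc σ H).left := hred s
  let fs : Red.bc σ G ⟶ Red.bc σ H := (Over.pullback σ).map f
  have sq := isPullback_map σ f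
  obtain ⟨c, hc, hce⟩ := exists_isMaxPt (η[Red.bc σ H].left (IsLocalRing.closedPoint (S.residueField s)))
  have hcN : pullback.fst H.hom σ c ∈ SGA3x.neutralSet H := by
    have h := Deform.Homogeneous.mem_neutralSet_of_specializes hce
    rw [GrpSchLib.Neutral.neutralSet_bc H σ] at h
    exact h
  obtain ⟨x, -, hxc⟩ := him.ge hcN
  obtain ⟨z, -, hz⟩ := Scheme.Pullback.exists_preimage_pullback (f := f.left) (g := pullback.fst H.hom σ) x c hxc
  obtain ⟨η₀, hη₀⟩ : c ∈ Set.range fs.left := ⟨sq.flip.isoPullback.inv z, by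
    rw [← Scheme.Hom.comp_apply, sq.flip.isoPullback_inv_snd, hz]⟩
  haveI : Flat fs.left := flat_of_mem_range fs hc η₀ hη₀
  exact (MorphismProperty.cancel_left_of_respectsIso @Flat sq.flip.isoPullback.hom (pullback.snd f.left (H.hom.fiberι s))).mp (by
    rw [show sq.flip.isoPullback.hom ≫ pullback.snd f.left (H.hom.fiberι s) = fs.left from sq.flip.isoPullback_hom_snd]
    exact ‹Flat fs.left›)

end base

end

end Groth.Agent.Deform.Neutral
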