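import Groth.Agent.Deform.Neutral.ReducedBase
import Groth.Agent.UnivOpen.Chevalley
import Groth.Agent.UnivOpen.Criterion
import Groth.Agent.S4956
import Groth.Agent.S4925
import Groth.Agent.S4926
import Groth.Agent.QHomeo.OpenAt

/-!
# Universal openness along the neutral component and constancy of the dimension (VI_B 4.3)
-/

set_option autoImplicit false

universe u

open CategoryTheory CategoryTheory.Limits MonoidalCategory CartesianMonoidalCategory MonObj GrpObj AlgebraicGeometry

attribute [local instance] CategoryTheory.Hom.monoid CategoryTheory.Hom.group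
set_option linter.style.haveILetI false
set_option linter.unusedSectionVars false

namespace Groth.Agent.Deform.Neutral

noncomputable section

theorem isUnivOpenAt_of_comp_mono {X V S : Scheme.{u}} (f : X ⟶ V) (i : V ⟶ S) [Mono i] {x : X}
    (h : EGA43.IsUnivOpenAt (f ≫ i) x) : EGA43.IsUnivOpenAt f x := by
  intro Y' g x' hx'
  have sq : IsPullback (pullback.fst f g) (pullback.snd f g) (f ≫ i) (g ≫ i) := by
    refine IsPullback.of_isLimit' ⟨by rw [pullback.condition_assoc]⟩
      (PullbackCone.IsLimit.mk _ (fun c => pullback.lift c.fst c.snd ?_) ?_ ?_ ?_)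
    · rw [← cancel_mono i, Category.assoc, Category.assoc]
      exact c.condition
    · intro c; exact pullback.lift_fst _ _ _
    · intro c; exact pullback.lift_snd _ _ _
    · intro c m h1 h2
      apply pullback.hom_ext
      · rw [pullback.lift_fst]; exact h1
      · rw [pullback.lift_snd]; exact h2
  exact QHomeo.univOpenAt_openAt h sq x' hx'

theorem isUnivOpenAt_openImmersion {X Y : Scheme.{u}} (j : X ⟶ Y) [IsOpenImmersion j] (x : X) :
    EGA43.IsUnivOpenAt j x :=
  (UnivOpen.universallyOpen_iff_forall j).mp inferInstance x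

variable {S : Scheme.{u}} {G : Over S} [GrpObj G]

/-- The generic point of the neutral component of a fibre. -/
theorem exists_generic_neutral (s : S) : ∃ ζ : G.left, G.hom ζ = s ∧ ζ ∈ SGA3x.neutralSet G ∧
    ∀ x ∈ SGA3x.neutralSet G, G.hom x = s → ζ ⤳ x := by
  let σ : Spec (CommRingCat.of (S.residueField s)) ⟶ S := S.fromSpecResidueField s
  let π := pullback.fst G.hom σ
  let H := Red.bc σ G
  obtain ⟨c, hc, hce⟩ := GrpSchLib.exists_isMaxPt (η[H].left (IsLocalRing.closedPoint (S.residueField s)))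
  have hN : SGA3x.neutralSet H = closure {c} := by
    exact (neutralSet_field H).trans (GrpSchLib.connectedComponent_one hc hce)
  have hN' := GrpSchLib.Neutral.neutralSet_bc (G := G) σ
  have hπ : ∀ z, G.hom (π z) = s := fun z => by
    rw [← Scheme.Hom.comp_apply, pullback.condition, Scheme.Hom.comp_apply]
    exact Scheme.fromSpecResidueField_apply _ _
  refine ⟨π c, hπ c, ?_, fun x hx hxs => ?_⟩
  · have : c ∈ SGA3x.neutralSet H := hN ▸ subset_closure rfl
    rw [hN'] at this
    exact this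
  · obtain ⟨z, hz, -⟩ := Scheme.Pullback.exists_preimage_pullback (f := G.hom) (g := σ) x
      (IsLocalRing.closedPoint _) (hxs.trans (Scheme.fromSpecResidueField_apply _ _).symm)
    have hzN : z ∈ SGA3x.neutralSet H := by
      rw [hN']; exact show π z ∈ SGA3x.neutralSet G from hz ▸ hx
    rw [hN] at hzN
    exact hz ▸ (specializes_iff_mem_closure.mpr hzN).map π.continuous

/-- An affine chart along the unit section, with its neutral components. -/
structure UnitChart (G : Over S) [GrpObj G] where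
  V : S.Opens
  W : G.left.Opens
  hWV : W ≤ G.hom ⁻¹ᵁ V
  hWe : ∀ t ∈ V, GrpSchLib.Neutral.unit G t ∈ W
  qc : QuasiCompact (G.hom.resLE V W hWV)
  qs : QuasiSeparated (G.hom.resLE V W hWV)

namespace UnitChart

variable (c : UnitChart G)

/-- The structure morphism of a chart. -/
def f : c.W.toScheme ⟶ c.V.toScheme := G.hom.resLE c.V c.W c.hWV

/-- The section of a chart. -/
def e : c.V.toScheme ⟶ c.W.toScheme := IsOpenImmersion.lift c.W.ι (c.V.ι ≫ GrpSchLib.Neutral.unit G) (by
  rintro _ ⟨t, rfl⟩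
  rw [Scheme.Opens.range_ι]
  exact c.hWe _ t.2)

theorem e_ι (t : c.V.toScheme) : c.W.ι (c.e t) = GrpSchLib.Neutral.unit G (c.V.ι t) := by
  rw [e, ← Scheme.Hom.comp_apply, IsOpenImmersion.lift_fac, Scheme.Hom.comp_apply]

theorem f_ι : c.f ≫ c.V.ι = c.W.ι ≫ G.hom := Scheme.Hom.resLE_comp_ι _ _

theorem hom_ι (w : c.W.toScheme) : G.hom (c.W.ι w) = c.V.ι (c.f w) := by
  rw [← Scheme.Hom.comp_apply, ← Scheme.Hom.comp_apply, f_ι]

theorem e_f : c.e ≫ c.f = 𝟙 _ := by
  rw [← cancel_mono c.V.ι, Category.assoc, f_ι, e, IsOpenImmersion.lift_fac_assoc,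
    Category.assoc, Category.id_comp]
  exact (congrArg (c.V.ι ≫ ·) (Over.w η[G])).trans (Category.comp_id _)

theorem f_e (t : c.V.toScheme) : c.f (c.e t) = t := congrArg (fun φ : c.V.toScheme ⟶ c.V.toScheme => φ t) c.e_f

theorem component (y : c.V.toScheme) :
    connectedComponentIn (c.f.base ⁻¹' {y}) (c.e.base y) = fibreNeutral c.hWV y := by
  have hey : c.e y ∈ fibreNeutral c.hWV y :=
    ⟨(c.e_ι y).symm ▸ GrpSchLib.Neutral.unit_mem_neutralSet G _, c.f_e y⟩
  refine subset_antisymm (fun z hz => ?_) (IsPreconnected.subset_connectedComponentIn ?_ hey fun z hz => hz.2)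
  · have hzy : c.f z = y := connectedComponentIn_subset (c.f.base ⁻¹' {y}) _ hz
    refine ⟨?_, hzy⟩
    rw [GrpSchLib.Neutral.mem_neutralSet_iff, hom_ι, hzy]
    refine (isPreconnected_connectedComponentIn.image _ c.W.ι.continuous.continuousOn).subset_connectedComponentIn
      ⟨c.e y, mem_connectedComponentIn (c.f_e y), c.e_ι _⟩ ?_ ⟨z, hz, rfl⟩
    rintro _ ⟨w, hw, rfl⟩
    have h' : c.f w = y := connectedComponentIn_subset (c.f.base ⁻¹' {y}) _ hw
    show G.hom (c.W.ι w) = _
    rw [hom_ι, h']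
  · have hpb := IsPullback.of_hasPullback c.f (c.V.toScheme.fromSpecResidueField y)
    have hirr := isIrreducible_preimage_fibreNeutral c.hWV hpb y (Scheme.fromSpecResidueField_apply _ _)
      (c.hWe _ y.2)
    have hsub : c.f.fiberι y '' (c.f.fiberι y ⁻¹' fibreNeutral c.hWV y) = fibreNeutral c.hWV y :=
      Set.image_preimage_eq_of_subset fun z hz => by
        rw [Scheme.Hom.range_fiberι]; exact hz.2
    rw [← hsub]
    exact (hirr.image _ (c.f.fiberι y).continuous.continuousOn).isPreirreducible.isPreconnected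

theorem geomIrreducible (y : c.V.toScheme) (K : Type u) [Field K]
    [Algebra (IsLocalRing.ResidueField (c.V.toScheme.presheaf.stalk y)) K] :
    IsIrreducible ((FBase.bcπ (c.f.fiberToSpecResidueField y) K ≫ c.f.fiberι y).base ⁻¹'
      connectedComponentIn (c.f.base ⁻¹' {y}) (c.e.base y)) := by
  rw [component]
  refine isIrreducible_preimage_fibreNeutral c.hWV (IsPullback.paste_horiz (IsPullback.of_hasPullback _ _)
    (IsPullback.of_hasPullback c.f (c.V.toScheme.fromSpecResidueField y))) y ?_ (c.hWe _ y.2)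
  rw [Scheme.Hom.comp_apply]
  exact Scheme.fromSpecResidueField_apply _ _

theorem irreducible (y : c.V.toScheme) : IsIrreducible (connectedComponentIn (c.f.base ⁻¹' {y}) (c.e.base y)) := by
  rw [component]
  have hpb := IsPullback.of_hasPullback c.f (c.V.toScheme.fromSpecResidueField y)
  have hirr := isIrreducible_preimage_fibreNeutral c.hWV hpb y (Scheme.fromSpecResidueField_apply _ _)
    (c.hWe _ y.2)
  have hsub : c.f.fiberι y '' (c.f.fiberι y ⁻¹' fibreNeutral c.hWV y) = fibreNeutral c.hWV y :=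
    Set.image_preimage_eq_of_subset fun z hz => by
      rw [Scheme.Hom.range_fiberι]; exact hz.2
  exact hsub ▸ hirr.image _ (c.f.fiberι y).continuous.continuousOn

section

variable [LocallyOfFinitePresentation G.hom]

theorem lfp : LocallyOfFinitePresentation c.f := by
  haveI : LocallyOfFinitePresentation (c.f ≫ c.V.ι) := by rw [f_ι]; infer_instance
  exact MorphismProperty.of_postcomp @LocallyOfFinitePresentation (W' := @IsOpenImmersion) c.f c.V.ι inferInstance this

theorem dim (y : c.V.toScheme) : topologicalKrullDim ↥(connectedComponentIn (c.f.base ⁻¹' {y}) (c.e.base y)) =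
    topologicalKrullDim ↥(G.hom.base ⁻¹' {c.V.ι y}) := by
  haveI := c.lfp
  rw [UnivOpen.dim_component c.f (c.f_e y) (c.irreducible y), ← FibDim.fibreDimAt_comp_mono c.f c.V.ι, f_ι,
    FibDim.fibreDimAt_openImmersion_comp, GrpSchLib.FibreDimGrp.dim_eq, e_ι]

theorem dim_fiber (y : c.V.toScheme) :
    topologicalKrullDim ↥(c.f.fiber y) = topologicalKrullDim ↥(connectedComponentIn (c.f.base ⁻¹' {y}) (c.e.base y)) := by
  rw [(c.f.fiberHomeo y).isHomeomorph.topologicalKrullDim_eq]
  refine le_antisymm ?_ ?_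
  · rw [dim]
    let m : ↥(c.f ⁻¹' {y}) → ↥(G.hom.base ⁻¹' {c.V.ι y}) := fun z =>
      ⟨c.W.ι z.1, show G.hom (c.W.ι z.1) = _ by rw [hom_ι, show c.f z.1 = y from z.2]⟩
    have hm : Topology.IsInducing m :=
      (Topology.IsInducing.subtypeVal.of_comp_iff (f := m)).mp
        (c.W.ι.isOpenEmbedding.isInducing.comp Topology.IsInducing.subtypeVal)
    exact hm.topologicalKrullDim_le
  · let m : ↥(connectedComponentIn (c.f.base ⁻¹' {y}) (c.e.base y)) → ↥(c.f ⁻¹' {y}) := fun z =>
      ⟨z.1, connectedComponentIn_subset (c.f.base ⁻¹' {y}) _ z.2⟩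
    have hm : Topology.IsInducing m :=
      (Topology.IsInducing.subtypeVal.of_comp_iff (f := m)).mp Topology.IsInducing.subtypeVal
    exact hm.topologicalKrullDim_le

end

end UnitChart

theorem exists_unitChart (s : S) : ∃ c : UnitChart G, s ∈ c.V := by
  obtain ⟨V, W, hsV, hV, hW, hWV, -, hWe⟩ := exists_affine_nhd s (⊤ : G.left.Opens) trivial
  haveI : IsAffine (W : Scheme.{u}) := hW
  haveI : IsAffine (V : Scheme.{u}) := hV
  haveI : IsAffineHom (G.hom.resLE V W hWV) := isAffineHom_of_isAffine _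
  exact ⟨⟨V, W, hWV, hWe, inferInstance, inferInstance⟩, hsV⟩

variable [LocallyOfFinitePresentation G.hom] (s : S)

/-- Constant dimension gives universal openness along the neutral component. -/
theorem isUnivOpenAt_of_dim_const
    (h : ∃ U : Set S, U ∈ nhds s ∧ ∀ t ∈ U, topologicalKrullDim ↥(G.hom.base ⁻¹' {t}) = topologicalKrullDim ↥(G.hom.base ⁻¹' {s}))
    (x : G.left) (hx : x ∈ SGA3x.neutralSet G) (hxs : G.hom x = s) : EGA43.IsUnivOpenAt G.hom x := by
  obtain ⟨ζ, hζs, hζN, hζ⟩ := exists_generic_neutral (G := G) s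
  refine UnivOpen.isUnivOpenAt_of_specializes ?_ (hζ x hx hxs) (hζs.trans hxs.symm)
  obtain ⟨c, hsV⟩ := exists_unitChart (G := G) s
  haveI := c.lfp; haveI := c.qc; haveI := c.qs
  haveI : QuasiCompact c.f := c.qc
  haveI : QuasiSeparated c.f := c.qs
  let y₀ : c.V.toScheme := ⟨s, hsV⟩
  have heW : GrpSchLib.Neutral.unit G s ∈ c.W := c.hWe s hsV
  obtain ⟨z, hz⟩ : ∃ z : c.W.toScheme, c.W.ι z = ζ :=
    ⟨⟨ζ, (hζ _ (GrpSchLib.Neutral.unit_mem_neutralSet G s) (GrpSchLib.Neutral.hom_unit G s)).mem_open c.W.isOpen heW⟩, rfl⟩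
  have hzy : c.f z = y₀ := c.V.ι.isOpenEmbedding.injective (by rw [← c.hom_ι, hz, hζs]; rfl)
  have hzC : z ∈ connectedComponentIn (c.f.base ⁻¹' {y₀}) (c.e.base y₀) := by
    rw [c.component]; exact ⟨hz ▸ hζN, hzy⟩
  have hzS : z ∈ MoreMor.sectionComponents c.f c.e := by
    show z ∈ connectedComponentIn (c.f ⁻¹' {c.f z}) (c.e (c.f z))
    rw [hzy]; exact hzC
  obtain ⟨U, hU, hUc⟩ := h
  obtain ⟨O, hO, hzO⟩ := (Groth.Agent.S4955.result c.f c.e c.e_f c.geomIrreducible z hzS
    ⟨c.V.ι ⁻¹' U, c.V.ι.continuous.continuousAt.preimage_mem_nhds (by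
      rw [show c.V.ι (c.f.base z) = s by rw [show c.f.base z = y₀ from hzy]; rfl]; exact hU),
      fun w hw => by
        rw [c.dim, c.dim, show c.f.base z = y₀ from hzy]
        exact hUc _ hw⟩).1
  have h1 := hzO z hzS hO
  have h2 := Groth.Agent.S4925.result c.f c.V.ι z h1 (isUnivOpenAt_openImmersion _ _)
  rw [c.f_ι] at h2
  exact hz ▸ Groth.Agent.S4926.result c.W.ι G.hom z h2

/-- Universal openness at the generic point gives constant dimension. -/
theorem dim_const_of_isUnivOpenAt
    (h : ∀ x ∈ SGA3x.neutralSet G, G.hom x = s → x ⤳ GrpSchLib.Neutral.unit G s → EGA43.IsUnivOpenAt G.hom x) :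
    ∃ U : Set S, U ∈ nhds s ∧ ∀ t ∈ U, topologicalKrullDim ↥(G.hom.base ⁻¹' {t}) = topologicalKrullDim ↥(G.hom.base ⁻¹' {s}) := by
  obtain ⟨c, hsV⟩ := exists_unitChart (G := G) s
  haveI := c.lfp
  haveI : QuasiCompact c.f := c.qc
  haveI : QuasiSeparated c.f := c.qs
  let y₀ : c.V.toScheme := ⟨s, hsV⟩
  obtain ⟨N, hN, hNc⟩ := Groth.Agent.S4956.result c.f c.e c.e_f c.geomIrreducible y₀ (fun ξ hξ hsub => by
      rw [c.component] at hξ
      refine isUnivOpenAt_of_comp_mono c.f c.V.ι ?_
      rw [c.f_ι]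
      refine Groth.Agent.S4925.result c.W.ι G.hom ξ (isUnivOpenAt_openImmersion _ _) (h _ hξ.1 ?_ ?_)
      · show G.hom (c.W.ι ξ) = s
        rw [c.hom_ι, show c.f ξ = y₀ from hξ.2]; rfl
      · have := (specializes_iff_mem_closure.mpr (hsub (mem_connectedComponentIn (c.f_e y₀)))).map c.W.ι.continuous
        rw [c.e_ι] at this
        exact this)
    (Or.inr fun y' _ _ => c.dim_fiber y')
  refine ⟨c.V.ι '' N, c.V.ι.isOpenEmbedding.isOpenMap.image_mem_nhds hN, ?_⟩
  rintro _ ⟨w, hw, rfl⟩
  have := hNc w hw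
  rwa [c.dim, c.dim] at this

end

end Groth.Agent.Deform.Neutral
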