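import Groth.Agent.Deform.Neutral.UnivOpen
import Groth.Agent.S1326
import Groth.Agent.MorLib.LimCons
import Groth.Agent.S12442
import Groth.Agent.GrpSchLib.FieldAllComp

/-!
# Constructibility of the union of the neutral components (VI_B 3.3, 3.5)
-/

set_option autoImplicit false

universe u

open CategoryTheory CategoryTheory.Limits MonoidalCategory CartesianMonoidalCategory MonObj GrpObj AlgebraicGeometry
open Topology

attribute [local instance] CategoryTheory.Hom.monoid CategoryTheory.Hom.group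
set_option linter.style.haveILetI false
set_option linter.unusedSectionVars false

namespace Groth.Agent.Deform.Neutral

noncomputable section

open GrpSchLib

variable {S : Scheme.{u}} {G : Over S} [GrpObj G]

/-- A point of a neutral component is the product of two points of an open neighbourhood of the unit lying in
the neutral component. -/
theorem exists_mul_neutral [LocallyOfFiniteType G.hom] {x : G.left} (hx : x ∈ SGA3x.neutralSet G) (W : G.left.Opens)
    (he : GrpSchLib.Neutral.unit G (G.hom x) ∈ W) :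
    ∃ p : (G ⊗ G).left, (fst G G).left p ∈ (W : Set G.left) ∩ SGA3x.neutralSet G ∧
      (snd G G).left p ∈ (W : Set G.left) ∩ SGA3x.neutralSet G ∧ μ[G].left p = x := by
  let σ : Spec (CommRingCat.of (S.residueField (G.hom x))) ⟶ S := S.fromSpecResidueField (G.hom x)
  let H := Red.bc σ G
  haveI : LocallyOfFiniteType H.hom := inferInstanceAs (LocallyOfFiniteType (pullback.snd G.hom σ))
  haveI : IsLocallyNoetherian H.left := LocallyOfFiniteType.isLocallyNoetherian H.hom
  let π := pullback.fst G.hom σ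
  obtain ⟨y, hyx⟩ : x ∈ Set.range π := (Scheme.Hom.range_fiberι G.hom (G.hom x)).ge rfl
  have hyN : y ∈ SGA3x.neutralSet H := by
    rw [GrpSchLib.Neutral.neutralSet_bc G σ]
    show π y ∈ SGA3x.neutralSet G
    rw [hyx]; exact hx
  rw [neutralSet_field H] at hyN
  let V : Set H.left := π ⁻¹' (W : Set G.left) ∩ connectedComponent (η[H].left (IsLocalRing.closedPoint _))
  have hV : IsOpen V := (W.isOpen.preimage π.continuous).inter (GrpSchLib.isOpen_connectedComponent (G := H) _)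
  have heV : η[H].left (IsLocalRing.closedPoint _) ∈ V := by
    refine ⟨?_, mem_connectedComponent⟩
    show π (GrpSchLib.Neutral.unit H (IsLocalRing.closedPoint (S.residueField (G.hom x)))) ∈ W
    rw [GrpSchLib.Neutral.bc_unit,
      show σ (IsLocalRing.closedPoint (S.residueField (G.hom x))) = G.hom x from Scheme.fromSpecResidueField_apply _ _]
    exact he
  obtain ⟨c, hc, hce⟩ := exists_isMaxPt (η[H].left (IsLocalRing.closedPoint (S.residueField (G.hom x))))
  rw [connectedComponent_one (G := H) hc hce] at hyN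
  obtain ⟨p, ⟨hp1, hp2⟩, hp⟩ := exists_mul_eq_of_specializes
    (specializes_iff_mem_closure.mpr hyN) hV heV (hce.mem_open hV heV)
  have hmem : ∀ z ∈ V, π z ∈ (W : Set G.left) ∩ SGA3x.neutralSet G := fun z hz => by
    refine ⟨hz.1, ?_⟩
    have h : z ∈ SGA3x.neutralSet H := (neutralSet_field H).symm ▸ hz.2
    rw [GrpSchLib.Neutral.neutralSet_bc G σ] at h
    exact h
  let q : (G ⊗ G).left := pullback.fst (G ⊗ G).hom σ ((Functor.LaxMonoidal.μ (Over.pullback σ) G G).left p)
  have hq : ∀ {Y : Over S} (r : G ⊗ G ⟶ Y), r.left q =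
      pullback.fst Y.hom σ ((Functor.LaxMonoidal.μ (Over.pullback σ) G G ≫ (Over.pullback σ).map r).left p) := fun r => by
    rw [Over.comp_left, Scheme.Hom.comp_apply]
    have e : ((Over.pullback σ).map r).left ≫ pullback.fst _ σ = pullback.fst (G ⊗ G).hom σ ≫ r.left :=
      pullback.lift_fst _ _ _
    rw [← Scheme.Hom.comp_apply ((Over.pullback σ).map r).left, e]
    rfl
  refine ⟨q, ?_, ?_, ?_⟩
  · rw [hq, Functor.Monoidal.μ_fst]; exact hmem _ hp1
  · rw [hq, Functor.Monoidal.μ_snd]; exact hmem _ hp2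
  · rw [hq, show Functor.LaxMonoidal.μ (Over.pullback σ) G G ≫ (Over.pullback σ).map μ[G] = μ[H] from rfl]
    exact (congrArg π hp).trans hyx

variable [LocallyOfFinitePresentation G.hom]

/-- Over a small affine open of the base the neutral components form the image of a constructible subset of an
affine scheme. -/
theorem exists_piece (s : S) : ∃ V : S.Opens, s ∈ V ∧ IsAffineOpen V ∧
    ∃ (P : Scheme.{u}) (_ : IsAffine P) (g : P ⟶ (G.hom ⁻¹ᵁ V).toScheme) (_ : LocallyOfFinitePresentation g)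
      (C : Set P), IsConstructible C ∧ g '' C = (G.hom ⁻¹ᵁ V).ι ⁻¹' SGA3x.neutralSet G := by
  obtain ⟨V, W, hsV, hV, hW, hWV, -, hWe⟩ := exists_affine_nhd s (⊤ : G.left.Opens) trivial
  haveI : IsAffine (W : Scheme.{u}) := hW
  haveI : IsAffine (V : Scheme.{u}) := hV
  haveI : IsAffineHom (G.hom.resLE V W hWV) := isAffineHom_of_isAffine _
  let c : UnitChart G := ⟨V, W, hWV, hWe, inferInstance, inferInstance⟩
  haveI : LocallyOfFinitePresentation c.f := c.lfp
  haveI : QuasiCompact c.f := c.qc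
  haveI : QuasiSeparated c.f := c.qs
  let C0 : Set c.W.toScheme := c.W.ι ⁻¹' SGA3x.neutralSet G
  have hC0 : IsConstructible C0 := by
    have h := S1326.result c.f c.e c.e_f
    have e : MoreMor.sectionComponents c.f c.e = C0 := by
      ext z
      show z ∈ connectedComponentIn (c.f.base ⁻¹' {c.f z}) (c.e.base (c.f z)) ↔ _
      rw [c.component]
      exact ⟨fun h => h.1, fun h => ⟨h, rfl⟩⟩
    rw [e] at h
    exact h.isConstructible
  let m : pullback c.f c.f ⟶ (G ⊗ G).left :=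
    pullback.map c.f c.f G.hom G.hom c.W.ι c.W.ι c.V.ι c.f_ι c.f_ι
  have hm1 : m ≫ (fst G G).left = pullback.fst c.f c.f ≫ c.W.ι := pullback.lift_fst _ _ _
  have hm2 : m ≫ (snd G G).left = pullback.snd c.f c.f ≫ c.W.ι := pullback.lift_snd _ _ _
  let g0 : pullback c.f c.f ⟶ G.left := m ≫ μ[G].left
  have hg0 : g0 ≫ G.hom = (pullback.fst c.f c.f ≫ c.f) ≫ c.V.ι := by
    simp only [g0, Category.assoc]
    rw [Over.w μ[G], ← Over.w (fst G G), reassoc_of% hm1, c.f_ι]
  let g : pullback c.f c.f ⟶ (G.hom ⁻¹ᵁ V).toScheme := IsOpenImmersion.lift (G.hom ⁻¹ᵁ V).ι g0 (by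
    rintro _ ⟨z, rfl⟩
    rw [Scheme.Opens.range_ι]
    show G.hom (g0 z) ∈ V
    rw [← Scheme.Hom.comp_apply, hg0, Scheme.Hom.comp_apply]
    exact ((pullback.fst c.f c.f ≫ c.f) z).2)
  have hgι : g ≫ (G.hom ⁻¹ᵁ V).ι = g0 := IsOpenImmersion.lift_fac _ _ _
  haveI : IsAffine (pullback c.f c.f) := isAffine_of_isAffineHom (pullback.fst c.f c.f)
  haveI : LocallyOfFinitePresentation g := by
    haveI : LocallyOfFinitePresentation (g ≫ ((G.hom ⁻¹ᵁ V).ι ≫ G.hom)) := by
      rw [← Category.assoc, hgι, hg0]; infer_instance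
    exact S12442.locallyOfFinitePresentation_of_comp g ((G.hom ⁻¹ᵁ V).ι ≫ G.hom)
  refine ⟨V, hsV, hV, pullback c.f c.f, inferInstance, g, inferInstance,
    pullback.fst c.f c.f ⁻¹' C0 ∩ pullback.snd c.f c.f ⁻¹' C0,
    ((pullback.fst c.f c.f).isConstructible_preimage hC0).inter ((pullback.snd c.f c.f).isConstructible_preimage hC0), ?_⟩
  have hgx : ∀ z, (G.hom ⁻¹ᵁ V).ι (g z) = μ[G].left (m z) := fun z => by
    rw [← Scheme.Hom.comp_apply, hgι]; rfl
  apply subset_antisymm
  · rintro _ ⟨z, ⟨h1, h2⟩, rfl⟩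
    show (G.hom ⁻¹ᵁ V).ι (g z) ∈ SGA3x.neutralSet G
    rw [hgx]
    refine μ_mem (m z) ?_ ?_
    · rw [← Scheme.Hom.comp_apply, hm1]; exact h1
    · rw [← Scheme.Hom.comp_apply, hm2]; exact h2
  · intro x hx
    obtain ⟨p, hp1, hp2, hp⟩ := exists_mul_neutral (x := (G.hom ⁻¹ᵁ V).ι x) hx c.W (hWe _ x.2)
    obtain ⟨q, rfl⟩ : p ∈ Set.range m := by
      refine (Scheme.Pullback.range_map _ _ _ _ _ _ _ _ _).ge ⟨?_, ?_⟩
      · show (fst G G).left p ∈ Set.range c.W.ι
        rw [Scheme.Opens.range_ι]; exact hp1.1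
      · show (snd G G).left p ∈ Set.range c.W.ι
        rw [Scheme.Opens.range_ι]; exact hp2.1
    rw [← Scheme.Hom.comp_apply, hm1] at hp1
    rw [← Scheme.Hom.comp_apply, hm2] at hp2
    exact ⟨q, ⟨hp1.2, hp2.2⟩, (G.hom ⁻¹ᵁ V).ι.isOpenEmbedding.injective ((hgx q).trans hp)⟩

omit [GrpObj G] [LocallyOfFinitePresentation G.hom] in
theorem mem_nhds_ι {Y : Scheme.{u}} (U : Y.Opens) (x : Y) (hx : x ∈ U) : (U : Set Y) ∈ nhds x :=
  U.isOpen.mem_nhds hx

/-- The neutral components form an ind-constructible subset. -/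
theorem isIndConstructible_neutralSet : ProCons.IsIndConstructible (SGA3x.neutralSet G) := by
  intro x
  obtain ⟨V, hxV, hV, P, hP, g, hg, C, hC, hgC⟩ := exists_piece (G := G) (G.hom x)
  obtain ⟨U, hU, hxU, hUV⟩ := exists_isAffineOpen_mem_and_subset (show x ∈ G.hom ⁻¹ᵁ V from hxV)
  refine ⟨U, U.isOpen, hxU, {T | IsLocallyConstructible T ∧ T ⊆ Subtype.val ⁻¹' SGA3x.neutralSet G}, fun T hT => hT.1,
    subset_antisymm ?_ (Set.sUnion_subset fun T hT => hT.2)⟩
  intro y hy
  have hy' : (⟨y.1, hUV y.2⟩ : (G.hom ⁻¹ᵁ V).toScheme) ∈ g '' C := hgC ▸ hy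
  obtain ⟨q, hqC, hq⟩ := hy'
  have hU' : IsAffineOpen ((G.hom ⁻¹ᵁ V).ι ⁻¹ᵁ U) := hU.preimage_of_isOpenImmersion _ (by
    rw [Scheme.Opens.opensRange_ι]; exact hUV)
  let U' := (G.hom ⁻¹ᵁ V).ι ⁻¹ᵁ U
  obtain ⟨O, hO, hqO, hOU⟩ := exists_isAffineOpen_mem_and_subset
    (show q ∈ g ⁻¹ᵁ U' from by show (G.hom ⁻¹ᵁ V).ι (g q) ∈ U; rw [hq]; exact y.2)
  haveI : IsAffine O.toScheme := hO
  haveI : IsAffine U'.toScheme := hU'
  let g' : O.toScheme ⟶ U'.toScheme := g.resLE U' O hOU
  haveI : IsAffineHom g' := isAffineHom_of_isAffine _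
  haveI : LocallyOfFinitePresentation g' := by
    haveI : LocallyOfFinitePresentation (g' ≫ U'.ι) := by
      rw [Scheme.Hom.resLE_comp_ι]; infer_instance
    exact MorphismProperty.of_postcomp @LocallyOfFinitePresentation (W' := @IsOpenImmersion) g' U'.ι inferInstance this
  have hT := g'.isLocallyConstructible_image (hC.isLocallyConstructible.preimage_of_isOpenEmbedding O.ι.isOpenEmbedding)
  let e : ↥(U : Set G.left) → U'.toScheme := fun z => ⟨⟨z.1, hUV z.2⟩, z.2⟩
  have he : IsOpenEmbedding e := by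
    refine IsOpenEmbedding.of_comp e (U'.ι.isOpenEmbedding) ?_
    refine IsOpenEmbedding.of_comp _ ((G.hom ⁻¹ᵁ V).ι.isOpenEmbedding) ?_
    exact U.isOpen.isOpenEmbedding_subtypeVal
  refine ⟨e ⁻¹' (g' '' (O.ι ⁻¹' C)), ⟨hT.preimage_of_isOpenEmbedding he, ?_⟩, ⟨q, hqO⟩, hqC, ?_⟩
  · rintro z ⟨w, hw, hwz⟩
    have h1 : g (O.ι w) = (⟨z.1, hUV z.2⟩ : (G.hom ⁻¹ᵁ V).toScheme) := by
      rw [← Scheme.Hom.comp_apply, ← Scheme.Hom.resLE_comp_ι g hOU, Scheme.Hom.comp_apply, hwz]
      rfl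
    have h2 : g (O.ι w) ∈ g '' C := ⟨_, hw, rfl⟩
    rw [hgC, h1] at h2
    exact h2
  · apply U'.ι.isOpenEmbedding.injective
    rw [← Scheme.Hom.comp_apply, Scheme.Hom.resLE_comp_ι, Scheme.Hom.comp_apply]
    exact hq

/-- The neutral components form a locally constructible subset of a quasi-separated group scheme. -/
theorem isLocallyConstructible_neutralSet [QuasiSeparated G.hom] :
    IsLocallyConstructible (SGA3x.neutralSet G) := by
  intro x
  obtain ⟨V, hxV, hV, P, hP, g, hg, C, hC, hgC⟩ := exists_piece (G := G) (G.hom x)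
  haveI : IsAffine (V : Scheme.{u}) := hV
  haveI : QuasiSeparatedSpace (G.hom ⁻¹ᵁ V).toScheme := by
    haveI : QuasiSeparated (G.hom ∣_ V) := MorphismProperty.of_isPullback
      (isPullback_morphismRestrict G.hom V).flip inferInstance
    exact quasiSeparatedSpace_of_quasiSeparated (G.hom ∣_ V)
  haveI : QuasiCompact g := quasiCompact_of_compactSpace g
  have h := g.isLocallyConstructible_image hC.isLocallyConstructible
  rw [hgC] at h
  obtain ⟨U, hU, hUo, hUc⟩ := h ⟨x, hxV⟩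
  refine ⟨(G.hom ⁻¹ᵁ V).ι '' U, (G.hom ⁻¹ᵁ V).ι.isOpenEmbedding.isOpenMap.image_mem_nhds hU,
    (G.hom ⁻¹ᵁ V).ι.isOpenEmbedding.isOpenMap _ hUo, ?_⟩
  let e : U ≃ₜ (G.hom ⁻¹ᵁ V).ι '' U := (G.hom ⁻¹ᵁ V).ι.isOpenEmbedding.isEmbedding.homeomorphImage U
  convert hUc.preimage_of_isOpenEmbedding e.symm.isOpenEmbedding using 1
  ext z
  obtain ⟨w, rfl⟩ := e.surjective z
  simp only [Set.mem_preimage, Homeomorph.symm_apply_apply]
  rfl

theorem isConstructible_neutralSet [QuasiSeparated G.hom] [CompactSpace S] [QuasiSeparatedSpace S] :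
    IsConstructible (SGA3x.neutralSet G) := by
  haveI : QuasiSeparatedSpace G.left := quasiSeparatedSpace_of_quasiSeparated G.hom
  choose V C hs hV hC hCV hN using fun s : S => GrpSchLib.Neutral.exists_compact G s
  obtain ⟨F, hF⟩ := isCompact_univ.elim_finite_subcover (fun s => (V s : Set S)) (fun s => (V s).isOpen)
    (fun s _ => Set.mem_iUnion.mpr ⟨s, hs s⟩)
  refine isLocallyConstructible_neutralSet.isConstructible_of_subset_of_isCompact ?_
    (F.isCompact_biUnion fun s _ => hC s)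
  intro x hx
  obtain ⟨s, hsF, hxs⟩ := Set.mem_iUnion₂.mp (hF (Set.mem_univ (G.hom x)))
  exact Set.mem_iUnion₂.mpr ⟨s, hsF, hN s ⟨hx, hxs⟩⟩

end

end Groth.Agent.Deform.Neutral
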