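import Groth.Agent.Deform.Neutral.Constructible
import Groth.Agent.Deform.Homogeneous.Separated
import Groth.Agent.S3403
import Groth.Agent.FibDim.RelDim
import Groth.Agent.QHomeo.OpenAt

/-!
# The translates of an open subset by the neutral components (VI_B 4.4)
-/

set_option autoImplicit false

universe u

open CategoryTheory CategoryTheory.Limits MonoidalCategory CartesianMonoidalCategory MonObj GrpObj AlgebraicGeometry

attribute [local instance] CategoryTheory.Hom.monoid CategoryTheory.Hom.group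
set_option linter.style.haveILetI false
set_option linter.unusedSectionVars false

namespace Groth.Agent.Deform.Neutral

noncomputable section

open GrpSchLib

variable {S : Scheme.{u}} {G : Over S} [GrpObj G] [LocallyOfFinitePresentation G.hom]

/-- With constant fibre dimension the generic point of a neutral component specializes to that of a specialized
fibre. -/
theorem generic_specializes {t s : S} (hts : t ⤳ s) {ζt ζs : G.left} (hζt : G.hom ζt = t)
    (hζtN : ζt ∈ SGA3x.neutralSet G) (hζtg : ∀ x ∈ SGA3x.neutralSet G, G.hom x = t → ζt ⤳ x)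
    (hζs : G.hom ζs = s) (hζsg : ∀ x ∈ SGA3x.neutralSet G, G.hom x = s → ζs ⤳ x)
    (hdim : topologicalKrullDim ↥(G.hom.base ⁻¹' {t}) = topologicalKrullDim ↥(G.hom.base ⁻¹' {s})) :
    ζt ⤳ ζs := by
  have he : GrpSchLib.Neutral.unit G t ⤳ GrpSchLib.Neutral.unit G s := hts.map (GrpSchLib.Neutral.unit G).continuous
  have hηx : ζt ⤳ GrpSchLib.Neutral.unit G s :=
    (hζtg _ (GrpSchLib.Neutral.unit_mem_neutralSet G t) (GrpSchLib.Neutral.hom_unit G t)).trans he
  obtain ⟨z, hz1, hz2, hz3, hle⟩ := FibDim.exists_rd_ge G.hom hηx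
  rw [GrpSchLib.Neutral.hom_unit] at hz3
  have hzN : z ∈ SGA3x.neutralSet G := by
    obtain ⟨z', rfl⟩ : z ∈ Set.range (pullback.fst G.hom (S.fromSpecResidueField s)) :=
      (Scheme.Hom.range_fiberι G.hom s).ge hz3
    let σ : Spec (CommRingCat.of (S.residueField s)) ⟶ S := S.fromSpecResidueField s
    have hz' : z' ∈ SGA3x.neutralSet (Red.bc σ G) := by
      refine Deform.Homogeneous.mem_neutralSet_of_specializes ?_
      refine (G.hom.fiberι s).isEmbedding.isInducing.specializes_iff.mp ?_
      show pullback.fst G.hom σ z' ⤳ pullback.fst G.hom σ (GrpSchLib.Neutral.unit (Red.bc σ G) (IsLocalRing.closedPoint _))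
      rw [GrpSchLib.Neutral.bc_unit,
        show σ (IsLocalRing.closedPoint (S.residueField s)) = s from Scheme.fromSpecResidueField_apply _ _]
      exact hz2
    rw [GrpSchLib.Neutral.neutralSet_bc G σ] at hz'
    exact hz'
  have hζmax : ∀ {u : S} {ζ : G.left}, G.hom ζ = u → (∀ x ∈ SGA3x.neutralSet G, G.hom x = u → ζ ⤳ x) →
      ∀ w ∈ SGA3x.neutralSet G, G.hom w = u →
        ((FibDim.rd G.hom w : ℕ∞) : WithBot ℕ∞) ≤ topologicalKrullDim ↥(G.hom.base ⁻¹' {u}) := by
    intro u ζ hu _ w _ hw
    rw [← hw, show topologicalKrullDim ↥(G.hom.base ⁻¹' {G.hom w}) = FlatMor.fibreDimAt G.hom w from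
      (GrpSchLib.FibreDimGrp.fibreDimAt_eq G w).symm]
    exact FibDim.rd_le_fibreDimAt G.hom specializes_rfl rfl
  have hζt' : ((FibDim.rd G.hom ζt : ℕ∞) : WithBot ℕ∞) = topologicalKrullDim ↥(G.hom.base ⁻¹' {t}) := by
    rw [← hζt, show topologicalKrullDim ↥(G.hom.base ⁻¹' {G.hom ζt}) = FlatMor.fibreDimAt G.hom ζt from
      (GrpSchLib.FibreDimGrp.fibreDimAt_eq G ζt).symm]
    obtain ⟨w, hw, hwt, hmax, he'⟩ := FibDim.exists_fibMax_generization G.hom ζt
    have : w = ζt := by
      obtain ⟨w', rfl⟩ : w ∈ Set.range (pullback.fst G.hom (S.fromSpecResidueField t)) :=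
        (Scheme.Hom.range_fiberι G.hom t).ge (hwt.trans hζt)
      let σ : Spec (CommRingCat.of (S.residueField t)) ⟶ S := S.fromSpecResidueField t
      have hw' : w' ∈ SGA3x.neutralSet (Red.bc σ G) := by
        refine Deform.Homogeneous.mem_neutralSet_of_specializes ?_
        refine (G.hom.fiberι t).isEmbedding.isInducing.specializes_iff.mp ?_
        show pullback.fst G.hom σ w' ⤳ pullback.fst G.hom σ (GrpSchLib.Neutral.unit (Red.bc σ G) (IsLocalRing.closedPoint _))
        rw [GrpSchLib.Neutral.bc_unit,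
          show σ (IsLocalRing.closedPoint (S.residueField t)) = t from Scheme.fromSpecResidueField_apply _ _]
        exact hw.trans (hζtg _ (GrpSchLib.Neutral.unit_mem_neutralSet G t) (GrpSchLib.Neutral.hom_unit G t))
      rw [GrpSchLib.Neutral.neutralSet_bc G σ] at hw'
      exact (hw.antisymm (hζtg _ hw' (hwt.trans hζt))).eq
    rw [he', this]
  suffices h : z = ζs by rwa [← h]
  by_contra hne
  have h1 := FibDim.rd_lt G.hom (hζsg z hzN hz3) (fun e => hne e.symm) (hζs.trans hz3.symm)
  have h2 : ((FibDim.rd G.hom ζs : ℕ∞) : WithBot ℕ∞) ≤ topologicalKrullDim ↥(G.hom.base ⁻¹' {s}) := by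
    rw [← hζs, show topologicalKrullDim ↥(G.hom.base ⁻¹' {G.hom ζs}) = FlatMor.fibreDimAt G.hom ζs from
      (GrpSchLib.FibreDimGrp.fibreDimAt_eq G ζs).symm]
    exact FibDim.rd_le_fibreDimAt G.hom specializes_rfl rfl
  rw [← hdim, ← hζt'] at h2
  have h3 : FibDim.rd G.hom ζs ≤ FibDim.rd G.hom ζt := by exact_mod_cast h2
  omega

omit [LocallyOfFinitePresentation G.hom] in
theorem inv_mem {T : Over S} (g : T ⟶ G) (t : T.left) (hg : g.left t ∈ SGA3x.neutralSet G) :
    (g⁻¹).left t ∈ SGA3x.neutralSet G := by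
  simpa using div_mem 1 g t (one_mem t) hg

variable {X : Over S} (a : AlgGrp.Action G X) (U : X.left.Opens)

/-- The translates of `U` by the neutral components. -/
def translates : Set X.left :=
  a.act.left.base '' {z : ↥(G ⊗ X).left | (fst G X).left.base z ∈ SGA3x.neutralSet G ∧ (snd G X).left.base z ∈ U}

theorem exists_translate_into {T : Over S} (r : T ⟶ X) (t : T.left) :
    r.left t ∈ translates a U ↔ ∃ q : (G ⊗ T).left, (fst G T).left q ∈ SGA3x.neutralSet G ∧
      (snd G T).left q = t ∧ ((G ◁ r) ≫ a.act).left q ∈ U := by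
  let inv' : G ⊗ X ⟶ G ⊗ X := lift (fst G X)⁻¹ a.act
  have hinv : inv' ≫ a.act = snd G X := by
    calc inv' ≫ a.act = lift (fst G X)⁻¹ (lift (fst G X) (snd G X) ≫ a.act) ≫ a.act := by
          simp only [inv', lift_fst_snd, Category.id_comp]
      _ = snd G X := by rw [GrpSchLib.act_mul, inv_mul_cancel, GrpSchLib.act_one]
  constructor
  · rintro ⟨z, ⟨hzN, hzU⟩, hz⟩
    let z' := inv'.left z
    have h1 : (fst G X).left z' ∈ SGA3x.neutralSet G := by
      rw [← Scheme.Hom.comp_apply, ← Over.comp_left, lift_fst]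
      exact inv_mem _ _ hzN
    have h2 : (snd G X).left z' = r.left t := by
      rw [← Scheme.Hom.comp_apply, ← Over.comp_left, lift_snd]
      exact hz
    obtain ⟨w, hw1, hw2⟩ := Scheme.Pullback.exists_preimage_pullback (f := (snd G X).left) (g := r.left) z' t h2
    let l : pullback (snd G X).left r.left ⟶ (G ⊗ T).left :=
      pullback.lift (pullback.fst _ _ ≫ (fst G X).left) (pullback.snd _ _) (by
        rw [Category.assoc, Over.w (fst G X), ← Over.w (snd G X), pullback.condition_assoc, Over.w r])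
    have hlf : l ≫ (fst G T).left = pullback.fst _ _ ≫ (fst G X).left := pullback.lift_fst _ _ _
    have hls : l ≫ (snd G T).left = pullback.snd _ _ := pullback.lift_snd _ _ _
    have hlw : (G ◁ r).left (l w) = z' := by
      have e : l ≫ (G ◁ r).left = pullback.fst _ _ := by
        apply pullback.hom_ext
        · show (l ≫ (G ◁ r).left) ≫ (fst G X).left = _ ≫ (fst G X).left
          rw [Category.assoc, ← Over.comp_left, whiskerLeft_fst, hlf]
        · show (l ≫ (G ◁ r).left) ≫ (snd G X).left = _ ≫ (snd G X).left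
          rw [Category.assoc, ← Over.comp_left, whiskerLeft_snd, Over.comp_left, reassoc_of% hls, ← pullback.condition]
      rw [← Scheme.Hom.comp_apply, e]
      exact hw1
    refine ⟨l w, ?_, ?_, ?_⟩
    · rw [← Scheme.Hom.comp_apply, hlf, Scheme.Hom.comp_apply, hw1]; exact h1
    · rw [← Scheme.Hom.comp_apply, hls]; exact hw2
    · rw [Over.comp_left, Scheme.Hom.comp_apply, hlw, ← Scheme.Hom.comp_apply, ← Over.comp_left, hinv]
      exact hzU
  · rintro ⟨q, hqN, hqt, hqU⟩
    let p := (G ◁ r).left q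
    refine ⟨inv'.left p, ⟨?_, ?_⟩, ?_⟩
    · rw [← Scheme.Hom.comp_apply, ← Over.comp_left, lift_fst]
      refine inv_mem _ _ ?_
      rw [← Scheme.Hom.comp_apply, ← Over.comp_left, whiskerLeft_fst]
      exact hqN
    · rw [← Scheme.Hom.comp_apply, ← Over.comp_left, lift_snd, ← Scheme.Hom.comp_apply, ← Over.comp_left]
      exact hqU
    · rw [← Scheme.Hom.comp_apply, ← Over.comp_left, hinv, ← Scheme.Hom.comp_apply, ← Over.comp_left,
        whiskerLeft_snd, Over.comp_left, Scheme.Hom.comp_apply, hqt]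

/-- The generic point of the neutral component over a point, translating it into `U` as soon as possible. -/
theorem exists_generic_translate {T : Over S} (t : T.left) :
    ∃ ζ : (G ⊗ T).left, (fst G T).left ζ ∈ SGA3x.neutralSet G ∧ (snd G T).left ζ = t ∧
      ∀ q : (G ⊗ T).left, (fst G T).left q ∈ SGA3x.neutralSet G → (snd G T).left q = t → ζ ⤳ q := by
  obtain ⟨ζ, hζt, hζN, hζ⟩ := exists_generic_neutral (G := Red.bc T.hom G) t
  rw [GrpSchLib.Neutral.neutralSet_bc G T.hom] at hζN hζ
  exact ⟨ζ, hζN, hζt, fun q hqN hqt => hζ q hqN hqt⟩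

variable (hdim : IsLocallyConstant (fun s : S => topologicalKrullDim ↥(G.hom.base ⁻¹' {s})))
include hdim

/-- The translates are stable under generization. -/
theorem mem_translates_of_specializes {y x : X.left} (h : y ⤳ x) (hx : x ∈ translates a U) : y ∈ translates a U := by
  obtain ⟨q, hqN, hqx, hqU⟩ := (exists_translate_into a U (𝟙 X) x).mp hx
  let H := Red.bc X.hom G
  haveI : LocallyOfFinitePresentation H.hom := inferInstanceAs (LocallyOfFinitePresentation (pullback.snd G.hom X.hom))
  haveI : LocallyOfFiniteType H.hom := inferInstance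
  obtain ⟨ζy, hζy, hζyN, hζyg⟩ := exists_generic_neutral (G := H) y
  obtain ⟨ζx, hζx, hζxN, hζxg⟩ := exists_generic_neutral (G := H) x
  have hdimH : ∀ z : X.left, topologicalKrullDim ↥(H.hom.base ⁻¹' {z}) = topologicalKrullDim ↥(G.hom.base ⁻¹' {X.hom z}) := by
    intro z
    have h1 := FibDim.fibreDimAt_baseChange (IsPullback.of_hasPullback G.hom X.hom) (GrpSchLib.Neutral.unit H z)
    rw [GrpSchLib.Neutral.bc_unit, ← GrpSchLib.FibreDimGrp.dim_eq G] at h1
    exact (GrpSchLib.FibreDimGrp.dim_eq H z).trans h1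
  have hsp : ζy ⤳ ζx := generic_specializes h hζy hζyN hζyg hζx hζxg (by
    rw [hdimH, hdimH]
    refine Classical.not_not.mp fun hne => hne ?_
    have hop := hdim.isOpen_fiber (topologicalKrullDim ↥(G.hom.base ⁻¹' {X.hom x}))
    exact (h.map X.hom.continuous).mem_open hop rfl)
  let O : (G ⊗ X).left.Opens := ((G ◁ 𝟙 X) ≫ a.act).left ⁻¹ᵁ U
  have hNH := GrpSchLib.Neutral.neutralSet_bc G X.hom
  have hζxO : ζx ∈ O := (hζxg q (by rw [hNH]; exact hqN) hqx).mem_open O.isOpen hqU
  have hζyO : ζy ∈ O := hsp.mem_open O.isOpen hζxO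
  rw [hNH] at hζyN
  exact (exists_translate_into a U (𝟙 X) y).mpr ⟨ζy, hζyN, hζy, hζyO⟩

theorem isOpen_translates : IsOpen (translates a U) := by
  haveI : LocallyOfFinitePresentation a.act.left := by
    let τ : G ⊗ X ≅ G ⊗ X :=
      { hom := lift (fst G X) a.act
        inv := lift (fst G X) (lift (fst G X)⁻¹ (snd G X) ≫ a.act)
        hom_inv_id := by
          apply CartesianMonoidalCategory.hom_ext
          · simp
          · rw [Category.assoc, lift_snd, ← Category.assoc, comp_lift, GrpObj.comp_inv, lift_fst, lift_snd,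
              Category.id_comp]
            calc lift (fst G X)⁻¹ a.act ≫ a.act = lift (fst G X)⁻¹ (lift (fst G X) (snd G X) ≫ a.act) ≫ a.act := by
                  rw [lift_fst_snd, Category.id_comp]
              _ = snd G X := by rw [GrpSchLib.act_mul, inv_mul_cancel, GrpSchLib.act_one]
        inv_hom_id := by
          apply CartesianMonoidalCategory.hom_ext
          · simp
          · rw [Category.assoc, lift_snd, Category.id_comp]
            calc lift (fst G X) (lift (fst G X)⁻¹ (snd G X) ≫ a.act) ≫ a.act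
                = lift (fst G X * (fst G X)⁻¹) (snd G X) ≫ a.act := GrpSchLib.act_mul a _ _ _
              _ = snd G X := by rw [mul_inv_cancel, GrpSchLib.act_one] }
    haveI : IsIso τ.hom.left := ((Over.forget _).mapIso τ).isIso_hom
    have e : a.act.left = τ.hom.left ≫ (snd G X).left := by rw [← Over.comp_left]; simp [τ]
    haveI : LocallyOfFinitePresentation (snd G X).left :=
      inferInstanceAs (LocallyOfFinitePresentation (pullback.snd G.hom X.hom))
    rw [e]; infer_instance
  have hind : ProCons.IsIndConstructible (translates a U) := by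
    refine EGA41Lib.ind_image a.act.left ?_
    have h1 := MorLib.LimPro.isIndConstructible_preimage (isIndConstructible_neutralSet (G := G)) (fst G X).left
    have h2 := MorLib.LimCons.ind_of_isOpen (((snd G X).left ⁻¹ᵁ U).isOpen)
    exact EGA41Lib.ind_iff.mpr fun V hV =>
      (EGA41Lib.ind_iff.mp h1 V hV).inter (EGA41Lib.ind_iff.mp h2 V hV)
  rw [← interior_eq_iff_isOpen]
  refine subset_antisymm interior_subset fun x hx => ?_
  exact (S3403.result X.left (translates a U) hind x).mpr fun y hy => mem_translates_of_specializes a U hdim hy hx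

theorem isSeparated_translates (hU : IsSeparated (U.ι ≫ X.hom)) (V : X.left.Opens)
    (hV : (V : Set X.left) = translates a U) : IsSeparated (V.ι ≫ X.hom) := by
  let UX : Over S := Over.mk (V.ι ≫ X.hom)
  let jV : UX ⟶ X := Over.homMk V.ι rfl
  let J : UX ⊗ UX ⟶ X ⊗ X := jV ⊗ₘ jV
  refine ⟨IsClosedImmersion.of_isPreimmersion (pullback.diagonal (V.ι ≫ X.hom)) ?_⟩
  show IsClosed (Set.range (Deform.Homogeneous.diag UX).left)
  refine closure_subset_iff_isClosed.mp fun v hv => ?_
  have hcomm : Deform.Homogeneous.diag UX ≫ J = jV ≫ Deform.Homogeneous.diag X := by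
    apply CartesianMonoidalCategory.hom_ext <;> simp [Deform.Homogeneous.diag, J]
  let p := J.left v
  have hp : p ∈ closure (Set.range (Deform.Homogeneous.diag X).left) :=
    map_mem_closure J.left.continuous hv (by
      rintro _ ⟨w, rfl⟩
      refine ⟨jV.left w, ?_⟩
      show (Deform.Homogeneous.diag X).left (jV.left w) = J.left ((Deform.Homogeneous.diag UX).left w)
      rw [← Scheme.Hom.comp_apply, ← Scheme.Hom.comp_apply, ← Over.comp_left, ← Over.comp_left, hcomm])
  have hc1 : (fst X X).left p = V.ι ((fst UX UX).left v) := by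
    rw [← Scheme.Hom.comp_apply, ← Over.comp_left, tensorHom_fst]; rfl
  have hc2 : (snd X X).left p = V.ι ((snd UX UX).left v) := by
    rw [← Scheme.Hom.comp_apply, ← Over.comp_left, tensorHom_snd]; rfl
  have hm : ∀ x : V.toScheme, V.ι x ∈ translates a U := fun x => hV ▸ x.2
  obtain ⟨q1, hq1N, hq1p, hq1U⟩ := (exists_translate_into a U (fst X X) p).mp (hc1 ▸ hm _)
  obtain ⟨q2, hq2N, hq2p, hq2U⟩ := (exists_translate_into a U (snd X X) p).mp (hc2 ▸ hm _)
  obtain ⟨ζ, hζN, hζp, hζ⟩ := exists_generic_translate (G := G) (T := X ⊗ X) p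
  have hζ1 : ((G ◁ fst X X) ≫ a.act).left ζ ∈ U :=
    (hζ q1 hq1N hq1p).mem_open (((G ◁ fst X X) ≫ a.act).left ⁻¹ᵁ U).isOpen hq1U
  have hζ2 : ((G ◁ snd X X) ≫ a.act).left ζ ∈ U :=
    (hζ q2 hq2N hq2p).mem_open (((G ◁ snd X X) ≫ a.act).left ⁻¹ᵁ U).isOpen hq2U
  -- openness of the projection at the generic point
  have hopen : EGA43.IsOpenAt (snd G (X ⊗ X)).left.base ζ := by
    have hu : EGA43.IsUnivOpenAt G.hom ((fst G (X ⊗ X)).left ζ) :=
      isUnivOpenAt_of_dim_const _ ⟨_, (hdim.isOpen_fiber _).mem_nhds (show G.hom ((fst G (X ⊗ X)).left ζ) ∈ _ from rfl),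
        fun t ht => ht⟩ _ hζN rfl
    exact QHomeo.univOpenAt_openAt hu (IsPullback.of_hasPullback G.hom (X ⊗ X).hom) ζ rfl
  have hcl : ζ ∈ closure ((snd G (X ⊗ X)).left ⁻¹' Set.range (Deform.Homogeneous.diag X).left) := by
    rw [mem_closure_iff_nhds]
    intro O hO
    obtain ⟨w, hwO, hwR⟩ := mem_closure_iff_nhds.mp hp _ (hζp ▸ hopen O hO)
    obtain ⟨o, ho, rfl⟩ := hwO
    exact ⟨o, ho, hwR⟩
  let β : G ⊗ (X ⊗ X) ⟶ (X ⊗ X) ⊗ G := lift (snd G (X ⊗ X)) (fst G (X ⊗ X))
  have hβR : Set.MapsTo β.left ((snd G (X ⊗ X)).left ⁻¹' Set.range (Deform.Homogeneous.diag X).left)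
      (Set.range (Deform.Homogeneous.diag X ▷ G).left) := by
    intro w hw
    rw [Deform.Homogeneous.range_whiskerRight, Set.mem_preimage, ← Scheme.Hom.comp_apply, ← Over.comp_left, lift_fst]
    exact hw
  have hq := map_mem_closure β.left.continuous hcl hβR
  have he : ∀ r : X ⊗ X ⟶ X, β ≫ (r ▷ G) ≫ lift (snd X G ≫ 𝟙 G) (fst X G) ≫ a.act = (G ◁ r) ≫ a.act := fun r => by
    rw [← Category.assoc, ← Category.assoc]
    congr 1
    apply CartesianMonoidalCategory.hom_ext <;> simp [β]
  have h1 : ((fst X X ▷ G) ≫ lift (snd X G ≫ 𝟙 G) (fst X G) ≫ a.act).left (β.left ζ) ∈ U := by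
    rw [← Scheme.Hom.comp_apply, ← Over.comp_left, he]; exact hζ1
  have h2 : ((snd X X ▷ G) ≫ lift (snd X G ≫ 𝟙 G) (fst X G) ≫ a.act).left (β.left ζ) ∈ U := by
    rw [← Scheme.Hom.comp_apply, ← Over.comp_left, he]; exact hζ2
  have hR := Deform.Homogeneous.mem_range_diag_of_translate a (𝟙 G) hq h1 h2
  rw [Deform.Homogeneous.range_whiskerRight, Set.mem_preimage, ← Scheme.Hom.comp_apply, ← Over.comp_left, lift_fst] at hR
  obtain ⟨x, hx⟩ := hR
  rw [hζp] at hx
  have hxV : x ∈ V := by
    have h : (fst X X).left p = x := by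
      rw [← hx, ← Scheme.Hom.comp_apply, ← Over.comp_left,
        show Deform.Homogeneous.diag X ≫ fst X X = 𝟙 X from lift_fst _ _]
      rfl
    rw [← h, hc1]; exact ((fst UX UX).left v).2
  haveI : IsOpenImmersion jV.left := inferInstanceAs (IsOpenImmersion V.ι)
  haveI : IsOpenImmersion J.left := by rw [Over.tensorHom_left]; infer_instance
  refine ⟨⟨x, hxV⟩, J.left.isOpenEmbedding.injective ?_⟩
  rw [← Scheme.Hom.comp_apply, ← Over.comp_left, hcomm, Over.comp_left, Scheme.Hom.comp_apply]
  exact hx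

end

end Groth.Agent.Deform.Neutral
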