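import Groth.Agent.Deform.Neutral.Open
import Groth.Agent.GrpSchLib.FibreDimGrp
import Groth.Agent.GrpSchLib.SmoothReduced
import Groth.Agent.GrpSchLib.FieldComp
import Groth.Agent.UnivOpen.SectionComp
import Groth.Agent.S4955
import Groth.Agent.S16763

/-!
# Group schemes with smooth fibres of constant dimension over a reduced base
-/

set_option autoImplicit false

universe u

open CategoryTheory CategoryTheory.Limits MonoidalCategory CartesianMonoidalCategory MonObj GrpObj AlgebraicGeometry

attribute [local instance] CategoryTheory.Hom.monoid CategoryTheory.Hom.group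
set_option linter.style.haveILetI false
set_option linter.unusedSectionVars false

namespace Groth.Agent.Deform.Neutral

noncomputable section

variable {S : Scheme.{u}} {G : Over S} [GrpObj G]
  (hfib : ∀ s : S, Smooth (pullback.snd G.hom (S.fromSpecResidueField s)))

include hfib in
omit [GrpObj G] in
theorem smooth_snd_field {K : Type u} [Field K] (σ : Spec (CommRingCat.of K) ⟶ S) :
    Smooth (pullback.snd G.hom σ) := by
  obtain ⟨⟨s, φ⟩, rfl⟩ := (Scheme.SpecToEquivOfField K S).symm.surjective σ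
  haveI := hfib s
  let e := IsPullback.paste_horiz
    (IsPullback.of_hasPullback (pullback.snd G.hom (S.fromSpecResidueField s)) (Spec.map φ))
    (IsPullback.of_hasPullback G.hom (S.fromSpecResidueField s))
  show Smooth (pullback.snd G.hom (Spec.map φ ≫ S.fromSpecResidueField s))
  rw [← e.isoPullback_inv_snd]
  infer_instance

variable {V : S.Opens} {W : G.left.Opens} (hWV : W ≤ G.hom ⁻¹ᵁ V)

/-- The points of a chart in the neutral component of the fibre over `y`. -/
def fibreNeutral (y : V.toScheme) : Set W.toScheme :=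
  {z | W.ι z ∈ SGA3x.neutralSet G ∧ G.hom.resLE V W hWV z = y}

section Field

variable {P : Scheme.{u}} {K : Type u} [Field K] {π : P ⟶ W.toScheme} {p : P ⟶ Spec (CommRingCat.of K)}
  {σ : Spec (CommRingCat.of K) ⟶ V.toScheme} (hP : IsPullback π p (G.hom.resLE V W hWV) σ)

include hP in
omit [GrpObj G] in
theorem exists_lift : ∃ m : P ⟶ pullback G.hom (σ ≫ V.ι), IsOpenImmersion m ∧
    m ≫ pullback.fst G.hom (σ ≫ V.ι) = π ≫ W.ι ∧ m ≫ pullback.snd G.hom (σ ≫ V.ι) = p := by
  have hσ : π ≫ W.ι ≫ G.hom = p ≫ σ ≫ V.ι := by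
    rw [← Scheme.Hom.resLE_comp_ι G.hom hWV, hP.w_assoc]
  let m : P ⟶ pullback G.hom (σ ≫ V.ι) := pullback.lift (π ≫ W.ι) p (by rw [Category.assoc, hσ])
  have h2 : IsPullback π p (W.ι ≫ G.hom) (σ ≫ V.ι) := by
    refine IsPullback.of_isLimit' ⟨hσ⟩ (PullbackCone.IsLimit.mk _ (fun s => hP.lift s.fst s.snd ?_) ?_ ?_ ?_)
    · rw [← cancel_mono V.ι, Category.assoc, Scheme.Hom.resLE_comp_ι, Category.assoc]
      exact s.condition
    · intro s; exact hP.lift_fst _ _ _
    · intro s; exact hP.lift_snd _ _ _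
    · intro s m h1 h2
      apply hP.hom_ext
      · rw [hP.lift_fst]; exact h1
      · rw [hP.lift_snd]; exact h2
  have h2' : IsPullback π (m ≫ pullback.snd G.hom (σ ≫ V.ι)) (W.ι ≫ G.hom) (σ ≫ V.ι) := by
    rw [pullback.lift_snd]; exact h2
  have h3 : IsPullback π m W.ι (pullback.fst G.hom (σ ≫ V.ι)) :=
    IsPullback.of_bot h2' (pullback.lift_fst _ _ _).symm (IsPullback.of_hasPullback G.hom (σ ≫ V.ι))
  exact ⟨m, MorphismProperty.of_isPullback h3 (inferInstanceAs (IsOpenImmersion W.ι)),
    pullback.lift_fst _ _ _, pullback.lift_snd _ _ _⟩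

include hfib hP in
omit [GrpObj G] in
theorem smooth_fibre : Smooth p := by
  obtain ⟨m, hm, -, hmp⟩ := exists_lift hWV hP
  haveI := smooth_snd_field hfib (σ ≫ V.ι)
  rw [← hmp]
  infer_instance

include hP in
theorem isIrreducible_preimage_fibreNeutral (y : V.toScheme) (hy : σ (IsLocalRing.closedPoint K) = y)
    (he : GrpSchLib.Neutral.unit G (V.ι y) ∈ W) :
    IsIrreducible (π ⁻¹' fibreNeutral hWV y) := by
  obtain ⟨m, hm, hmπ, -⟩ := exists_lift hWV hP
  let H := Red.bc (σ ≫ V.ι) G
  have hA : π ⁻¹' fibreNeutral hWV y = m ⁻¹' SGA3x.neutralSet H := by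
    ext w
    have h1 : G.hom.resLE V W hWV (π w) = y := by
      rw [← Scheme.Hom.comp_apply, hP.w, Scheme.Hom.comp_apply, ← hy]
      exact congrArg σ (@Subsingleton.elim (Spec (CommRingCat.of K)) inferInstance _ _)
    rw [GrpSchLib.Neutral.neutralSet_bc]
    show _ ∧ _ ↔ pullback.fst G.hom (σ ≫ V.ι) (m w) ∈ SGA3x.neutralSet G
    rw [← Scheme.Hom.comp_apply m, hmπ]
    exact and_iff_left h1
  refine ⟨?_, ?_⟩
  · obtain ⟨e, he'⟩ : ∃ e : W.toScheme, W.ι e = GrpSchLib.Neutral.unit G (V.ι y) := ⟨⟨_, he⟩, rfl⟩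
    have hfe : G.hom.resLE V W hWV e = y := by
      apply V.ι.isOpenEmbedding.injective
      rw [← Scheme.Hom.comp_apply, Scheme.Hom.resLE_comp_ι, Scheme.Hom.comp_apply, he', GrpSchLib.Neutral.hom_unit]
    obtain ⟨w, hw, -⟩ := Scheme.Pullback.exists_preimage_pullback (f := G.hom.resLE V W hWV) (g := σ) e
      (IsLocalRing.closedPoint K) (hfe.trans hy.symm)
    refine ⟨hP.isoPullback.inv w, ?_⟩
    rw [Set.mem_preimage, ← Scheme.Hom.comp_apply, hP.isoPullback_inv_fst, hw]
    exact ⟨he' ▸ GrpSchLib.Neutral.unit_mem_neutralSet G _, hfe⟩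
  · rw [hA]
    obtain ⟨g, hg, hge⟩ := GrpSchLib.exists_isMaxPt (η[H].left (IsLocalRing.closedPoint K))
    rw [neutralSet_field, GrpSchLib.connectedComponent_one hg hge]
    exact isIrreducible_singleton.closure.isPreirreducible.preimage m.isOpenEmbedding

end Field

variable [LocallyOfFinitePresentation G.hom] [IsReduced S]
  (hdim : IsLocallyConstant (fun s : S => topologicalKrullDim ↥(G.hom.base ⁻¹' {s})))

include hfib hdim in
/-- EGA IV 15.6.7: the group is smooth along the unit section. -/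
theorem exists_smooth_nhd_unit (s : S) :
    ∃ U : G.left.Opens, GrpSchLib.Neutral.unit G s ∈ U ∧ Smooth (U.ι ≫ G.hom) := by
  obtain ⟨V, W, hsV, hV, hW, hWV, -, hWe⟩ := exists_affine_nhd s (⊤ : G.left.Opens) trivial
  haveI : IsAffine (W : Scheme.{u}) := hW
  haveI : IsAffine (V : Scheme.{u}) := hV
  let f : W.toScheme ⟶ V.toScheme := G.hom.resLE V W hWV
  haveI : IsAffineHom f := isAffineHom_of_isAffine _
  haveI : LocallyOfFinitePresentation f := by
    haveI : LocallyOfFinitePresentation (f ≫ V.ι) := by rw [Scheme.Hom.resLE_comp_ι]; infer_instance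
    exact MorphismProperty.of_postcomp @LocallyOfFinitePresentation (W' := @IsOpenImmersion) f V.ι inferInstance this
  let e : V.toScheme ⟶ W.toScheme := IsOpenImmersion.lift W.ι (V.ι ≫ GrpSchLib.Neutral.unit G) (by
    rintro _ ⟨t, rfl⟩
    rw [Scheme.Opens.range_ι]
    exact hWe _ t.2)
  have hef : e ≫ f = 𝟙 _ := by
    rw [← cancel_mono V.ι, Category.assoc, Scheme.Hom.resLE_comp_ι, IsOpenImmersion.lift_fac_assoc,
      Category.assoc, Category.id_comp]
    exact (congrArg (V.ι ≫ ·) (Over.w η[G])).trans (Category.comp_id _)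
  have hfe : ∀ t, f (e t) = t := fun t => congrArg (fun φ : V.toScheme ⟶ V.toScheme => φ t) hef
  have heι : ∀ t, W.ι (e t) = GrpSchLib.Neutral.unit G (V.ι t) := fun t => by
    rw [← Scheme.Hom.comp_apply, IsOpenImmersion.lift_fac, Scheme.Hom.comp_apply]
  have hP : ∀ (y : V.toScheme) (K : Type u) [Field K] [Algebra (IsLocalRing.ResidueField (V.toScheme.presheaf.stalk y)) K],
      IsPullback (FBase.bcπ (f.fiberToSpecResidueField y) K ≫ f.fiberι y) (FBase.bcStr (f.fiberToSpecResidueField y) K)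
        (G.hom.resLE V W hWV)
        (Spec.map (CommRingCat.ofHom (algebraMap (IsLocalRing.ResidueField (V.toScheme.presheaf.stalk y)) K)) ≫
          V.toScheme.fromSpecResidueField y) := fun y K _ _ =>
    IsPullback.paste_horiz (IsPullback.of_hasPullback _ _) (IsPullback.of_hasPullback f (V.toScheme.fromSpecResidueField y))
  have hcomp : ∀ y : V.toScheme, connectedComponentIn (f.base ⁻¹' {y}) (e.base y) = fibreNeutral hWV y := by
    intro y
    have hey : e y ∈ fibreNeutral hWV y :=
      ⟨(heι y).symm ▸ GrpSchLib.Neutral.unit_mem_neutralSet G _, hfe y⟩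
    refine subset_antisymm (fun z hz => ?_) (IsPreconnected.subset_connectedComponentIn ?_ hey fun z hz => hz.2)
    · have hzy : f z = y := connectedComponentIn_subset (f.base ⁻¹' {y}) _ hz
      have hfib' : ∀ w, G.hom (W.ι w) = V.ι (f w) := fun w => by
        rw [← Scheme.Hom.comp_apply, ← Scheme.Hom.comp_apply, Scheme.Hom.resLE_comp_ι]
      refine ⟨?_, hzy⟩
      rw [GrpSchLib.Neutral.mem_neutralSet_iff, hfib', hzy]
      refine (isPreconnected_connectedComponentIn.image _ W.ι.continuous.continuousOn).subset_connectedComponentIn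
        ⟨e y, mem_connectedComponentIn (hfe y), heι _⟩ ?_ ⟨z, hz, rfl⟩
      rintro _ ⟨w, hw, rfl⟩
      have h' : f w = y := connectedComponentIn_subset (f.base ⁻¹' {y}) _ hw
      show G.hom (W.ι w) = _
      rw [hfib', h']
    · have hpb := IsPullback.of_hasPullback f (V.toScheme.fromSpecResidueField y)
      have hirr := isIrreducible_preimage_fibreNeutral hWV hpb y (Scheme.fromSpecResidueField_apply _ _)
        (hWe _ y.2)
      have hsub : f.fiberι y '' (f.fiberι y ⁻¹' fibreNeutral hWV y) = fibreNeutral hWV y :=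
        Set.image_preimage_eq_of_subset fun z hz => by
          rw [Scheme.Hom.range_fiberι]; exact hz.2
      rw [← hsub]
      exact (hirr.image _ (f.fiberι y).continuous.continuousOn).isPreirreducible.isPreconnected
  have hirr : ∀ y : V.toScheme, ∀ (K : Type u) [Field K] [Algebra (IsLocalRing.ResidueField (V.toScheme.presheaf.stalk y)) K],
      IsIrreducible ((FBase.bcπ (f.fiberToSpecResidueField y) K ≫ f.fiberι y).base ⁻¹' connectedComponentIn (f.base ⁻¹' {y}) (e.base y)) := by
    intro y K _ _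
    rw [hcomp]
    refine isIrreducible_preimage_fibreNeutral hWV (hP y K) y ?_ (hWe _ y.2)
    rw [Scheme.Hom.comp_apply]
    exact Scheme.fromSpecResidueField_apply _ _
  have hdim' : ∀ y : V.toScheme, topologicalKrullDim ↥(connectedComponentIn (f.base ⁻¹' {y}) (e.base y)) =
      topologicalKrullDim ↥(G.hom.base ⁻¹' {V.ι y}) := by
    intro y
    have hi : IsIrreducible (connectedComponentIn (f.base ⁻¹' {y}) (e.base y)) := by
      rw [hcomp]
      have hpb := IsPullback.of_hasPullback f (V.toScheme.fromSpecResidueField y)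
      have hirr := isIrreducible_preimage_fibreNeutral hWV hpb y (Scheme.fromSpecResidueField_apply _ _)
        (hWe _ y.2)
      have hsub : f.fiberι y '' (f.fiberι y ⁻¹' fibreNeutral hWV y) = fibreNeutral hWV y :=
        Set.image_preimage_eq_of_subset fun z hz => by
          rw [Scheme.Hom.range_fiberι]; exact hz.2
      exact hsub ▸ hirr.image _ (f.fiberι y).continuous.continuousOn
    rw [UnivOpen.dim_component f (hfe y) hi, ← FibDim.fibreDimAt_comp_mono f V.ι]
    show FlatMor.fibreDimAt (G.hom.resLE V W hWV ≫ V.ι) _ = _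
    rw [Scheme.Hom.resLE_comp_ι, FibDim.fibreDimAt_openImmersion_comp, GrpSchLib.FibreDimGrp.dim_eq, heι]
  let y₀ : V.toScheme := ⟨s, hsV⟩
  have hx₀ : e y₀ ∈ MoreMor.sectionComponents f e := by
    show e y₀ ∈ connectedComponentIn _ (e (f (e y₀)))
    rw [hfe]
    exact mem_connectedComponentIn (hfe y₀)
  obtain ⟨O, hO, hsO, hOc⟩ := (IsLocallyConstant.iff_exists_open _).mp hdim s
  have hconst : ∃ N ∈ nhds (f.base (e y₀)), ∀ z ∈ N, topologicalKrullDim ↥(connectedComponentIn (f.base ⁻¹' {z}) (e.base z)) =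
      topologicalKrullDim ↥(connectedComponentIn (f.base ⁻¹' {(f.base (e y₀))}) (e.base (f.base (e y₀)))) := by
    refine ⟨V.ι ⁻¹' O, (hO.preimage V.ι.continuous).mem_nhds ?_, fun z hz => ?_⟩
    · show V.ι (f (e y₀)) ∈ O
      rw [hfe]; exact hsO
    · rw [hdim', hdim']
      refine (hOc _ hz).trans ?_
      show _ = topologicalKrullDim ↥(G.hom.base ⁻¹' {V.ι (f (e y₀))})
      rw [hfe]
      rfl
  haveI : IsReduced V.toScheme := inferInstance
  have hgeo : FBase.IsGeomReducedAt (f.fiberToSpecResidueField (f.base (e y₀))) (f.asFiber (e y₀)) := by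
    intro K _ _ x' _
    haveI : Smooth (FBase.bcStr (f.fiberToSpecResidueField (f (e y₀))) K) := smooth_fibre hfib hWV (hP _ K)
    haveI : _root_.AlgebraicGeometry.IsReduced (FBase.bc (f.fiberToSpecResidueField (f (e y₀))) K) :=
      GrpSchLib.isReduced_of_smooth_field (FBase.bcStr (f.fiberToSpecResidueField (f (e y₀))) K)
    infer_instance
  have hflat := (Groth.Agent.S4955.result f e hef hirr (e y₀) hx₀ hconst).2 inferInstance hgeo
  haveI : Smooth (pullback.snd f (V.toScheme.fromSpecResidueField (f (e y₀)))) :=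
    smooth_fibre hfib hWV (IsPullback.of_hasPullback f (V.toScheme.fromSpecResidueField (f (e y₀))))
  haveI : IsIso (pullback.snd (𝟙 V.toScheme) (V.toScheme.fromSpecResidueField (f (e y₀)))) :=
    pullback_snd_iso_of_left_iso _ _
  have hoi : IsOpenImmersion (pullback.snd (𝟙 V.toScheme) (V.toScheme.fromSpecResidueField (f (e y₀)))) :=
    IsOpenImmersion.of_isIso _
  have hsm : Smooth (CohIII.fiberMapOver f f (𝟙 _) (Category.comp_id f) (f (e y₀))) := by
    refine MorphismProperty.of_postcomp @Smooth (W' := @IsOpenImmersion) _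
      (pullback.snd (𝟙 V.toScheme) (V.toScheme.fromSpecResidueField (f (e y₀)))) hoi ?_
    rw [show CohIII.fiberMapOver f f (𝟙 _) (Category.comp_id f) (f (e y₀)) ≫ pullback.snd (𝟙 V.toScheme) _ =
      pullback.snd f _ ≫ 𝟙 _ from pullback.lift_snd _ _ _, Category.comp_id]
    assumption
  obtain ⟨U, heU, hU⟩ := (Groth.Agent.S16763.result (𝟙 V.toScheme) f f (Category.comp_id f) (e y₀) hflat
    (f.asFiber (e y₀)) (Scheme.Hom.fiberι_asFiber f (e y₀))).mpr ⟨⊤, trivial, inferInstance⟩
  let j := U.ι ≫ W.ι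
  refine ⟨j.opensRange, ⟨⟨e y₀, heU⟩, ?_⟩, ?_⟩
  · show W.ι (e y₀) = _
    exact heι y₀
  · haveI : Smooth (j ≫ G.hom) := by
      rw [Category.assoc, ← Scheme.Hom.resLE_comp_ι G.hom hWV, ← Category.assoc]
      infer_instance
    rw [show j.opensRange.ι ≫ G.hom = j.isoOpensRange.inv ≫ j ≫ G.hom by
      rw [← Category.assoc, Scheme.Hom.isoOpensRange_inv_comp]]
    infer_instance

include hfib hdim in
/-- A smooth open neighbourhood of the unit section. -/
theorem exists_smooth_open_unit :
    ∃ U : G.left.Opens, Smooth (U.ι ≫ G.hom) ∧ ∀ s, GrpSchLib.Neutral.unit G s ∈ U := by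
  choose U hU hUs using exists_smooth_nhd_unit hfib hdim
  refine ⟨⨆ s, U s, IsZariskiLocalAtSource.of_iSup_eq_top (P := @Smooth) (fun s => (⨆ s, U s : G.left.Opens).ι ⁻¹ᵁ U s) ?_ fun s => ?_,
    fun s => TopologicalSpace.Opens.mem_iSup.mpr ⟨s, hU s⟩⟩
  · exact TopologicalSpace.Opens.ext (Set.eq_univ_of_forall fun y => by
      obtain ⟨s, hs⟩ := TopologicalSpace.Opens.mem_iSup.mp y.2
      exact TopologicalSpace.Opens.mem_iSup.mpr ⟨s, hs⟩)
  · have hle : Set.range (((⨆ s, U s : G.left.Opens).ι ⁻¹ᵁ U s).ι ≫ (⨆ s, U s : G.left.Opens).ι) ⊆ Set.range (U s).ι := by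
      rintro _ ⟨z, rfl⟩
      rw [Scheme.Opens.range_ι]
      exact z.2
    rw [← Category.assoc, ← IsOpenImmersion.lift_fac (U s).ι _ hle, Category.assoc]
    haveI := hUs s
    haveI : IsOpenImmersion (IsOpenImmersion.lift (U s).ι _ hle) := by
      haveI : IsOpenImmersion (IsOpenImmersion.lift (U s).ι _ hle ≫ (U s).ι) := by
        rw [IsOpenImmersion.lift_fac]; infer_instance
      exact IsOpenImmersion.of_comp _ (U s).ι
    infer_instance

end

end Groth.Agent.Deform.Neutral
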