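import Groth.Agent.Deform.Neutral.Constructible
import Mathlib.AlgebraicGeometry.Morphisms.FlatMono
import Groth.Agent.EGA41Lib.ConsQS

/-!
# A monomorphism representing an ind-constructible subset is an open immersion (VI_B 3.9)
-/

set_option autoImplicit false

universe u

open CategoryTheory CategoryTheory.Limits AlgebraicGeometry MvPolynomial
open Topology Groth.Agent.SpecLib Groth.Agent.EGA41Lib

set_option linter.style.haveILetI false

namespace Groth.Agent.Deform.Neutral

noncomputable section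

/-- A retract of a finitely presented algebra is finitely presented. -/
theorem finitePresentation_of_retract {A B C : Type u} [CommRing A] [CommRing B] [CommRing C] [Algebra A B]
    [Algebra A C] [Algebra.FinitePresentation A C] (ψ : B →ₐ[A] C) (r : C →ₐ[A] B) (h : r.comp ψ = AlgHom.id A B) :
    Algebra.FinitePresentation A B := by
  classical
  have hr : Function.Surjective r := fun b => ⟨ψ b, DFunLike.congr_fun h b⟩
  obtain ⟨s, hs⟩ := (inferInstance : Algebra.FiniteType A C).out
  refine Algebra.FinitePresentation.of_surjective hr ?_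
  let e : C →ₐ[A] C := ψ.comp r
  have hre : ∀ c, r (e c) = r c := fun c => DFunLike.congr_fun h (r c)
  refine ⟨s.image fun c => c - e c, le_antisymm (Ideal.span_le.mpr ?_) fun c hc => ?_⟩
  · intro x hx
    obtain ⟨c, -, rfl⟩ := Finset.mem_image.mp hx
    rw [SetLike.mem_coe, RingHom.mem_ker]
    exact (map_sub r c (e c)).trans (sub_eq_zero.mpr (hre c).symm)
  · let J : Ideal C := Ideal.span ↑(s.image fun c => c - e c)
    have key : (Ideal.Quotient.mkₐ A J) = (Ideal.Quotient.mkₐ A J).comp e := by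
      refine AlgHom.ext_of_adjoin_eq_top hs fun c hc => ?_
      exact (Ideal.Quotient.eq).mpr (Ideal.subset_span (Finset.mem_image_of_mem (fun c => c - e c) hc))
    have h1 := DFunLike.congr_fun key c
    have h2 : e c = 0 := by
      show ψ (r c) = 0
      rw [show r c = 0 from hc, map_zero]
    rw [AlgHom.comp_apply, h2, map_zero] at h1
    exact Ideal.Quotient.eq_zero_iff_mem.mp h1

section ring

variable {A B : Type u} [CommRing A] [CommRing B] [Algebra A B] {Y U : Scheme.{u}}
  (u : Spec (CommRingCat.of A) ⟶ Y)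

/-- A finite presentation stage of `B` whose spectrum lands in an ind-constructible set. -/
theorem exists_stage {N : Set Y} (hN : ProCons.IsIndConstructible N)
    (hB : Set.range (Spec.map (CommRingCat.ofHom (algebraMap A B)) ≫ u) ⊆ N) :
    ∃ (C : Type u) (_ : CommRing C) (_ : Algebra A C) (_ : Algebra.FinitePresentation A C) (_ : C →ₐ[A] B),
      Set.range (Spec.map (CommRingCat.ofHom (algebraMap A C)) ≫ u) ⊆ N := by
  classical
  let P := MvPolynomial B A
  let π : P →ₐ[A] B := aeval id
  haveI : CompactSpace (Spec (CommRingCat.of P)) := inferInstanceAs (CompactSpace (PrimeSpectrum P))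
  let vP : Spec (CommRingCat.of P) ⟶ Y := Spec.map (CommRingCat.ofHom (algebraMap A P)) ≫ u
  let O : Set (Spec (CommRingCat.of P)) := vP ⁻¹' N
  have hO : CO O := co_iff_ind.mpr (MorLib.LimPro.isIndConstructible_preimage hN vP)
  have hπ : Function.Surjective π := fun b => ⟨X b, aeval_X _ _⟩
  obtain ⟨T, hT⟩ : ∃ T : Finset ↥(RingHom.ker π.toRingHom), ∀ p : Spec (CommRingCat.of P),
      (∀ t ∈ T, (t : P) ∈ (p : PrimeSpectrum P).asIdeal) → p ∈ O := by
    by_contra hne
    push Not at hne
    let f : Finset ↥(RingHom.ker π.toRingHom) → Set (PrimeSpectrum P) := fun T =>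
      PrimeSpectrum.zeroLocus ((↑) '' (T : Set ↥(RingHom.ker π.toRingHom)) : Set P) ∩ Oᶜ
    obtain ⟨p, hp⟩ := CC.nonempty_iInter (X := PrimeSpectrum P) f
      (fun T T' => ⟨T ∪ T', fun p hp => ⟨PrimeSpectrum.zeroLocus_anti_mono (Set.image_mono (Finset.coe_subset.mpr Finset.subset_union_left)) hp.1, hp.2⟩,
        fun p hp => ⟨PrimeSpectrum.zeroLocus_anti_mono (Set.image_mono (Finset.coe_subset.mpr Finset.subset_union_right)) hp.1, hp.2⟩⟩)
      (fun T => by
        obtain ⟨p, hp, hpO⟩ := hne T
        exact ⟨p, by rintro _ ⟨t, ht, rfl⟩; exact hp t ht, hpO⟩)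
      (fun T => (cc_of_isClosed (PrimeSpectrum.isClosed_zeroLocus _)).inter hO.compl)
    rw [Set.mem_iInter] at hp
    refine (hp ∅).2 ?_
    have hker : (PrimeSpectrum.zeroLocus (RingHom.ker π.toRingHom : Set P)) =
        Set.range (PrimeSpectrum.comap π.toRingHom) :=
      (range_comap_of_surjective _ π.toRingHom hπ).symm
    obtain ⟨b, hb⟩ : (p : PrimeSpectrum P) ∈ Set.range (PrimeSpectrum.comap π.toRingHom) := by
      rw [← hker]
      intro t ht
      exact (hp {⟨t, ht⟩}).1 ⟨⟨t, ht⟩, Finset.mem_singleton_self _, rfl⟩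
    show vP p ∈ N
    refine hB ⟨(b : PrimeSpectrum B), ?_⟩
    rw [← hb, show Spec.map (CommRingCat.ofHom (algebraMap A B)) ≫ u =
      Spec.map (CommRingCat.ofHom π.toRingHom) ≫ vP by
        simp only [vP]
        rw [← Spec.map_comp_assoc, ← CommRingCat.ofHom_comp]
        congr 3
        exact RingHom.ext fun a => (π.commutes a).symm]
    rfl
  let σ : Finset B := T.biUnion fun t => (t : P).vars
  let incl : ↥σ → B := Subtype.val
  let q : P →ₐ[A] MvPolynomial ↥σ A := killCompl (f := incl) Subtype.val_injective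
  let I : Ideal (MvPolynomial ↥σ A) := Ideal.span ↑(T.image fun t : ↥(RingHom.ker π.toRingHom) => q t.1)
  let r : MvPolynomial ↥σ A →ₐ[A] B := aeval incl
  have hI : ∀ x ∈ I, r x = 0 := by
    suffices h : I ≤ RingHom.ker r.toRingHom from fun x hx => h hx
    refine Ideal.span_le.mpr ?_
    intro x hx
    obtain ⟨t, ht, rfl⟩ := Finset.mem_image.mp hx
    obtain ⟨t', ht'⟩ := exists_rename_eq_of_vars_subset_range (t : P) incl Subtype.val_injective
      (fun x hx => ⟨⟨x, Finset.mem_biUnion.mpr ⟨t, ht, hx⟩⟩, rfl⟩)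
    show r (q (t : P)) = 0
    have h0 : π (t : P) = 0 := t.2
    rw [← ht', killCompl_rename_app]
    rw [← ht', aeval_rename] at h0
    exact h0
  refine ⟨MvPolynomial ↥σ A ⧸ I, inferInstance, inferInstance,
    Algebra.FinitePresentation.quotient ⟨_, rfl⟩, Ideal.Quotient.liftₐ I r hI, ?_⟩
  rintro _ ⟨c, rfl⟩
  let qq : P →ₐ[A] MvPolynomial ↥σ A ⧸ I := (Ideal.Quotient.mkₐ A I).comp q
  have hc : Spec.map (CommRingCat.ofHom qq.toRingHom) c ∈ O := hT _ fun t ht => by
    show qq (t : P) ∈ (c : PrimeSpectrum _).asIdeal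
    have : qq (t : P) = 0 :=
      Ideal.Quotient.eq_zero_iff_mem.mpr (Ideal.subset_span (Finset.mem_image_of_mem (fun t : ↥(RingHom.ker π.toRingHom) => q t.1) ht))
    rw [this]
    exact zero_mem _
  rw [show Spec.map (CommRingCat.ofHom (algebraMap A (MvPolynomial ↥σ A ⧸ I))) ≫ u =
    Spec.map (CommRingCat.ofHom qq.toRingHom) ≫ vP by
      simp only [vP]
      rw [← Spec.map_comp_assoc, ← CommRingCat.ofHom_comp]
      congr 3
      exact RingHom.ext fun a => (qq.commutes a).symm, Scheme.Hom.comp_apply]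
  exact hc

end ring

/-- A monomorphism through which exactly the morphisms with image in an ind-constructible set factor is an open
immersion. -/
theorem isOpenImmersion_of_factor {X Y : Scheme.{u}} (i : X ⟶ Y) [Mono i] {N : Set Y}
    (hN : ProCons.IsIndConstructible N)
    (h : ∀ (T : Scheme.{u}) (g : T ⟶ Y), (∃ z, z ≫ i = g) ↔ Set.range g ⊆ N) : IsOpenImmersion i := by
  haveI : Smooth i := by
    rw [HasRingHomProperty.iff_exists_appLE (P := @Smooth)
      (RingHom.Smooth.stableUnderComposition.stableUnderCompositionWithLocalizationAway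
        RingHom.Smooth.holdsForLocalizationAway).left]
    intro z
    obtain ⟨V, hV, hzV, -⟩ := exists_isAffineOpen_mem_and_subset (show i z ∈ (⊤ : Y.Opens) from trivial)
    obtain ⟨U, hU, hzU, hUV⟩ := exists_isAffineOpen_mem_and_subset (show z ∈ i ⁻¹ᵁ V from hzV)
    refine ⟨⟨V, hV⟩, ⟨U, hU⟩, hzU, hUV, ?_⟩
    letI : Algebra Γ(Y, V) Γ(X, U) := (i.appLE V U hUV).hom.toAlgebra
    show (i.appLE V U hUV).hom.Smooth
    have hsq : Spec.map (CommRingCat.ofHom (algebraMap Γ(Y, V) Γ(X, U))) ≫ hV.fromSpec = hU.fromSpec ≫ i :=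
      IsAffineOpen.SpecMap_appLE_fromSpec i hV hU hUV
    -- algebra maps out of the chart are determined by the composite to `Y`
    have huniq : ∀ {C : Type u} [CommRing C] [Algebra Γ(Y, V) C] (ψ ψ' : Γ(X, U) →ₐ[Γ(Y, V)] C), ψ = ψ' := by
      intro C _ _ ψ ψ'
      have key : ∀ ψ : Γ(X, U) →ₐ[Γ(Y, V)] C, (Spec.map (CommRingCat.ofHom ψ.toRingHom) ≫ hU.fromSpec) ≫ i =
          Spec.map (CommRingCat.ofHom (algebraMap Γ(Y, V) C)) ≫ hV.fromSpec := fun ψ => by
        rw [Category.assoc, ← hsq, ← Spec.map_comp_assoc, ← CommRingCat.ofHom_comp]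
        congr 3
        exact RingHom.ext fun a => ψ.commutes a
      have h1 := Spec.map_injective ((cancel_mono hU.fromSpec).mp ((cancel_mono i).mp ((key ψ).trans (key ψ').symm)))
      exact AlgHom.ext fun b => congrArg (fun m => m.hom b) h1
    -- points with values in `C` landing in the chart
    have hfac : ∀ {C : Type u} [CommRing C] [Algebra Γ(Y, V) C] (t : Spec (CommRingCat.of C) ⟶ X),
        t ≫ i = Spec.map (CommRingCat.ofHom (algebraMap Γ(Y, V) C)) ≫ hV.fromSpec →
        (∀ c, t c ∈ U) → Nonempty (Γ(X, U) →ₐ[Γ(Y, V)] C) := by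
      intro C _ _ t ht htU
      let l := IsOpenImmersion.lift hU.fromSpec t (by
        rintro _ ⟨c, rfl⟩; rw [hU.range_fromSpec]; exact htU c)
      obtain ⟨ψ, hψ⟩ := Spec.map_surjective l
      have hψA : CommRingCat.ofHom (algebraMap Γ(Y, V) Γ(X, U)) ≫ ψ = CommRingCat.ofHom (algebraMap Γ(Y, V) C) := by
        apply Spec.map_injective
        rw [← cancel_mono hV.fromSpec, Spec.map_comp, Category.assoc, hsq, hψ, IsOpenImmersion.lift_fac_assoc, ht]
      exact ⟨{ ψ.hom with commutes' := fun a => congrArg (fun m => m.hom a) hψA }⟩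
    have hBN : Set.range (Spec.map (CommRingCat.ofHom (algebraMap Γ(Y, V) Γ(X, U))) ≫ hV.fromSpec) ⊆ N :=
      (h _ _).mp ⟨hU.fromSpec, hsq.symm⟩
    -- finite presentation
    haveI hfp : Algebra.FinitePresentation Γ(Y, V) Γ(X, U) := by
      classical
      obtain ⟨C, _, _, _, r, hC⟩ := exists_stage hV.fromSpec hN hBN
      obtain ⟨t, ht⟩ := (h _ _).mpr hC
      obtain ⟨s, hs⟩ := (PrimeSpectrum.isClosed_iff_zeroLocus _).mp
        ((t ⁻¹ᵁ U).isOpen.isClosed_compl : IsClosed (SetLike.coe (t ⁻¹ᵁ U))ᶜ)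
      have hrt : Spec.map (CommRingCat.ofHom r.toRingHom) ≫ t = hU.fromSpec := by
        rw [← cancel_mono i, Category.assoc, ht, ← hsq, ← Spec.map_comp_assoc, ← CommRingCat.ofHom_comp]
        congr 3
        exact RingHom.ext fun a => r.commutes a
      have hone : (1 : Γ(X, U)) ∈ Ideal.span (r '' s) := by
        rw [← Ideal.eq_top_iff_one]
        by_contra hne
        obtain ⟨M, hM, hsM⟩ := Ideal.exists_le_maximal _ hne
        let b : PrimeSpectrum Γ(X, U) := ⟨M, hM.isPrime⟩
        have h1 : PrimeSpectrum.comap r.toRingHom b ∈ PrimeSpectrum.zeroLocus s := fun x hx =>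
          hsM (Ideal.subset_span ⟨x, hx, rfl⟩)
        rw [← hs] at h1
        refine h1 ?_
        show t (Spec.map (CommRingCat.ofHom r.toRingHom) b) ∈ U
        rw [← Scheme.Hom.comp_apply, hrt]
        exact hU.range_fromSpec.le ⟨b, rfl⟩
      obtain ⟨F, hFs, hF⟩ := Submodule.mem_span_finite_of_mem_span hone
      choose a ha har using fun x : F => hFs x.2
      have hF' : (1 : Γ(X, U)) ∈ Ideal.span (Set.range fun x : F => r (a x)) := by
        refine Ideal.span_mono ?_ hF
        intro x hx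
        exact ⟨⟨x, hx⟩, har _⟩
      obtain ⟨b, hb⟩ := Ideal.mem_span_range_iff_exists_fun.mp hF'
      let C₁ := MvPolynomial F C
      let rel : C₁ := (∑ x : F, MvPolynomial.X x * MvPolynomial.C (a x)) - 1
      let C' := C₁ ⧸ Ideal.span {rel}
      haveI : Algebra.FinitePresentation Γ(Y, V) C₁ := Algebra.FinitePresentation.trans Γ(Y, V) C C₁
      haveI : Algebra.FinitePresentation Γ(Y, V) C' :=
        Algebra.FinitePresentation.quotient ⟨{rel}, by rw [Finset.coe_singleton]⟩
      letI : Algebra C Γ(X, U) := r.toRingHom.toAlgebra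
      haveI : IsScalarTower Γ(Y, V) C Γ(X, U) := .of_algebraMap_eq fun a => (r.commutes a).symm
      let r₁ : C₁ →ₐ[Γ(Y, V)] Γ(X, U) := (MvPolynomial.aeval (R := C) b).restrictScalars Γ(Y, V)
      let r' : C' →ₐ[Γ(Y, V)] Γ(X, U) := Ideal.Quotient.liftₐ _ r₁ fun x hx => by
        obtain ⟨y, rfl⟩ := Ideal.mem_span_singleton'.mp hx
        rw [map_mul]
        convert mul_zero (r₁ y)
        show MvPolynomial.aeval b rel = 0
        simp only [rel, map_sub, map_sum, map_mul, map_one, aeval_X, aeval_C]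
        rw [sub_eq_zero]
        exact hb
      let ι' : C →ₐ[Γ(Y, V)] C' := IsScalarTower.toAlgHom Γ(Y, V) C C'
      let t' : Spec (CommRingCat.of C') ⟶ X := Spec.map (CommRingCat.ofHom ι'.toRingHom) ≫ t
      obtain ⟨ψ⟩ := hfac t' (by
          rw [Category.assoc, ht, ← Spec.map_comp_assoc, ← CommRingCat.ofHom_comp]
          rfl) (fun c => by
        show Spec.map (CommRingCat.ofHom ι'.toRingHom) c ∈ t ⁻¹ᵁ U
        by_contra hne
        have h1 : (PrimeSpectrum.comap ι'.toRingHom c) ∈ PrimeSpectrum.zeroLocus s := hs ▸ hne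
        refine (c : PrimeSpectrum C').isPrime.ne_top ((Ideal.eq_top_iff_one _).mpr ?_)
        have h2 : (Ideal.Quotient.mk (Ideal.span {rel}) (∑ x : F, MvPolynomial.X x * MvPolynomial.C (a x))) = 1 := by
          rw [← map_one (Ideal.Quotient.mk _)]
          exact Ideal.Quotient.eq.mpr (Ideal.subset_span rfl)
        rw [← h2, map_sum]
        refine Ideal.sum_mem _ fun x _ => ?_
        rw [map_mul]
        exact Ideal.mul_mem_left _ _ (h1 (ha x)))
      exact finitePresentation_of_retract ψ r' (huniq _ _)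
    haveI : Algebra.FormallySmooth Γ(Y, V) Γ(X, U) := by
      refine Algebra.FormallySmooth.of_comp_surjective fun C _ _ J hJ φ => ?_
      let k : Spec (CommRingCat.of (C ⧸ J)) ⟶ Spec (CommRingCat.of C) := Spec.map (CommRingCat.ofHom (Ideal.Quotient.mk J))
      have hk : Function.Surjective k := fun c => by
        have hc : (c : PrimeSpectrum C) ∈ Set.range (PrimeSpectrum.comap (Ideal.Quotient.mk J)) := by
          rw [range_comap_of_surjective _ _ Ideal.Quotient.mk_surjective, Ideal.mk_ker]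
          intro x hx
          refine (c : PrimeSpectrum C).isPrime.mem_of_pow_mem 2 ?_
          have : x ^ 2 ∈ J ^ 2 := Ideal.pow_mem_pow hx 2
          rw [hJ, Ideal.mem_bot] at this
          rw [this]; exact zero_mem _
        exact hc
      let g : Spec (CommRingCat.of C) ⟶ Y := Spec.map (CommRingCat.ofHom (algebraMap Γ(Y, V) C)) ≫ hV.fromSpec
      let z₀ : Spec (CommRingCat.of (C ⧸ J)) ⟶ X := Spec.map (CommRingCat.ofHom φ.toRingHom) ≫ hU.fromSpec
      have hz₀ : z₀ ≫ i = k ≫ g := by
        rw [Category.assoc, ← hsq, ← Spec.map_comp_assoc, ← Spec.map_comp_assoc, ← CommRingCat.ofHom_comp,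
          ← CommRingCat.ofHom_comp]
        congr 3
        exact RingHom.ext fun a => φ.commutes a
      have hgN : Set.range g ⊆ N := by
        rintro _ ⟨c, rfl⟩
        obtain ⟨c', rfl⟩ := hk c
        rw [← Scheme.Hom.comp_apply, ← hz₀]
        exact (h _ _).mp ⟨z₀, rfl⟩ ⟨c', rfl⟩
      obtain ⟨t, ht⟩ := (h _ _).mpr hgN
      have hkt : k ≫ t = z₀ := by rw [← cancel_mono i, Category.assoc, ht, hz₀]
      obtain ⟨ψ⟩ := hfac t ht fun c => by
        obtain ⟨c', rfl⟩ := hk c
        rw [← Scheme.Hom.comp_apply, hkt]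
        exact hU.range_fromSpec.le ⟨_, rfl⟩
      exact ⟨ψ, huniq _ _⟩
    exact ⟨inferInstance, hfp⟩
  exact IsOpenImmersion.of_flat_of_mono i

open MonoidalCategory CartesianMonoidalCategory MonObj in
/-- A representing subobject of the neutral components is quasi-compact over the base. -/
theorem quasiCompact_of_range {S : Scheme.{u}} {G G0 : Over S} [GrpObj G] [LocallyOfFinitePresentation G.hom]
    (i : G0 ⟶ G) [IsOpenImmersion i.left] (hi : Set.range i.left = SGA3x.neutralSet G) : QuasiCompact G0.hom := by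
  choose V hsV hV P hP g hg C hC hgC using fun s : S => exists_piece (G := G) s
  refine IsZariskiLocalAtTarget.of_iSup_eq_top (P := @QuasiCompact) V
    (eq_top_iff.mpr fun s _ => TopologicalSpace.Opens.mem_iSup.mpr ⟨s, hsV s⟩) fun s => ?_
  haveI : IsAffine (V s).toScheme := hV s
  haveI := hP s
  haveI : CompactSpace (G0.hom ⁻¹ᵁ V s).toScheme := by
    refine isCompact_iff_compactSpace.mp ?_
    show IsCompact ((G0.hom ⁻¹ᵁ V s : G0.left.Opens) : Set G0.left)
    rw [i.left.isOpenEmbedding.isInducing.isCompact_iff]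
    have hCc : IsCompact (C s) := MorLib.LimCons.isCompact_of_pro (cc_iff_pro.mp (cons_clopen (hC s)).1)
    have hset : i.left '' ((G0.hom ⁻¹ᵁ V s : G0.left.Opens) : Set G0.left) = (g s ≫ (G.hom ⁻¹ᵁ V s).ι) '' C s := by
      rw [Scheme.Hom.comp_base, TopCat.coe_comp, Set.image_comp, hgC s, Set.image_preimage_eq_inter_range,
        Scheme.Opens.range_ι, ← hi]
      ext y
      constructor
      · rintro ⟨x, hx, rfl⟩
        refine ⟨⟨x, rfl⟩, ?_⟩
        show G.hom (i.left x) ∈ V s
        rw [← Scheme.Hom.comp_apply, Over.w]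
        exact hx
      · rintro ⟨⟨x, rfl⟩, hy⟩
        refine ⟨x, ?_, rfl⟩
        show G0.hom x ∈ V s
        rw [← Over.w i, Scheme.Hom.comp_apply]
        exact hy
    rw [hset]
    exact hCc.image (g s ≫ (G.hom ⁻¹ᵁ V s).ι).continuous
  exact quasiCompact_of_compactSpace _

end

end Groth.Agent.Deform.Neutral
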